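import Cfsg.Agent.HNK.L1D0

set_option autoImplicit false
set_option Elab.async false
set_option maxRecDepth 100000
set_option linter.all false

namespace Cfsg.Agent.HNK
open Cfsg.Agent.CGT

theorem l1_r10 : l1_E.run [4112, 9, 4, 9, 12, 0, 4108, 9, 8204, 9, 12300, 0, 16396, 9, 20492, 9, 24588, 9, 4, 9, 8, 4104, 13, 8200, 4, 9, 8200, 16, 0, 4112, 9, 4, 9, 8, 4104, 13, 12, 0, 4108, 9, 8204, 9, 12300, 0, 16396, 9, 20492, 9, 24588, 9, 4, 9, 8] l1_D0 [l1_K9_0, 0, l1_K9_2, l1_K9_3, 0] (fun D K => Nat.beq D l1_D0 && beqL K [l1_K10_0, 0, l1_K10_2, l1_K10_3, 0]) = true := by decide +kernel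
theorem l1_r11 : l1_E.run [4104, 13, 8200, 12296, 9, 4, 9, 8, 16, 0, 4112, 9, 4, 9, 8, 4104, 13, 8200, 12, 0, 4108, 9, 8204, 9, 12300, 0, 16396, 9, 20492, 9, 24588, 9, 4, 9, 8, 4104, 13, 8200, 4, 9, 8, 16, 0, 4112, 9, 4, 9, 8200, 16, 0, 8200, 12, 0, 4108, 9] l1_D0 [l1_K10_0, 0, l1_K10_2, l1_K10_3, 0] (fun D K => Nat.beq D l1_D0 && beqL K [l1_K11_0, 0, l1_K11_2, l1_K11_3, 0]) = true := by decide +kernel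
theorem l1_r12 : l1_E.run [8204, 9, 12300, 0, 16396, 9, 20492, 9, 4, 9, 8, 4104, 13, 8200, 4, 9, 8, 16, 0, 4112, 9, 12, 0, 4108, 9, 8204, 9, 12300, 0, 16396, 9, 20492, 9, 24588, 9, 4, 9, 4104, 13, 8200, 4, 9, 4112, 9, 4, 9, 4104, 13, 12, 0, 4108, 9, 12300, 0] l1_D0 [l1_K11_0, 0, l1_K11_2, l1_K11_3, 0] (fun D K => Nat.beq D l1_D0 && beqL K [l1_K12_0, 0, l1_K12_2, l1_K12_3, 0]) = true := by decide +kernel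
theorem l1_r13 : l1_E.run [16396, 9, 20492, 9, 24588, 9, 4, 9, 4104, 13, 8200, 4, 9, 16, 0, 4112, 9, 4, 9, 8, 4104, 13, 4, 9, 12, 0, 20, 0, 4116, 9, 8212, 0, 12308, 9, 16404, 9, 20500, 9, 4, 9, 8, 4104, 13, 8200, 4, 9, 8, 8200, 16, 0, 4112, 9, 4, 9, 8, 4104, 13] l1_D0 [l1_K12_0, 0, l1_K12_2, l1_K12_3, 0] (fun D K => Nat.beq D l1_D0 && beqL K [l1_K13_0, 0, l1_K13_2, l1_K13_3, 0]) = true := by decide +kernel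
theorem l1_r14 : l1_E.run [8200, 4, 9, 8200, 16, 0, 4112, 9, 4, 9, 4104, 13, 4, 9, 4104, 13, 4112, 9, 4104, 13, 4112, 9, 4, 9, 16, 0, 12, 0, 4108, 9, 8204, 9, 12300, 0, 16396, 9, 20492, 9, 24588, 9, 4, 9, 8, 4104, 13, 8200, 4, 9, 16, 0, 4112, 9, 12, 0, 4108, 9, 8204, 9] l1_D0 [l1_K13_0, 0, l1_K13_2, l1_K13_3, 0] (fun D K => Nat.beq D l1_D0 && beqL K [l1_K14_0, 0, l1_K14_2, l1_K14_3, 0]) = true := by decide +kernel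
theorem l1_r15 : l1_E.run [12300, 0, 16396, 9, 20492, 9, 24588, 9, 4, 9, 8, 4104, 13, 8200, 4, 9, 8, 4104, 13, 8200, 16, 0, 4112, 9, 4, 9, 4104, 13, 4, 9, 4108, 9, 8204, 9, 16396, 9, 20492, 9, 24588, 9, 4, 9, 4104, 13, 8200, 4112, 9, 12, 0, 4108, 9, 12300, 0, 16396, 9] l1_D0 [l1_K14_0, 0, l1_K14_2, l1_K14_3, 0] (fun D K => Nat.beq D l1_D0 && beqL K [l1_K15_0, 0, l1_K15_2, l1_K15_3, 0]) = true := by decide +kernel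
theorem l1_r16 : l1_E.run [20492, 9, 4, 9, 8, 4104, 13, 8200, 4, 9, 16, 0, 4112, 9, 4, 9, 8, 4104, 13, 4, 9, 12, 0, 8204, 9, 16396, 9, 20492, 9, 24588, 9, 4, 9, 4104, 13, 8200, 4, 9, 16, 0, 4104, 13, 4, 9, 4112, 9, 4, 9, 8, 16, 0, 4108, 9, 16396, 9, 20492, 9, 4, 9, 8, 4104, 13] l1_D0 [l1_K15_0, 0, l1_K15_2, l1_K15_3, 0] (fun D K => Nat.beq D l1_D0 && beqL K [l1_K16_0, 0, l1_K16_2, l1_K16_3, 0]) = true := by decide +kernel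
theorem l1_r17 : l1_E.run [8200, 4, 9, 16, 0, 4112, 9, 4104, 13, 8200, 4, 9, 16, 0, 8, 12, 0, 4108, 9, 8204, 9, 16396, 9, 20492, 9, 24588, 9, 4, 9, 4104, 13, 8200, 4, 9, 16, 0, 4112, 9, 4, 9, 12, 0, 4108, 9, 8204, 9, 12300, 0, 16396, 9, 20492, 9, 24588, 9, 4, 9] l1_D0 [l1_K16_0, 0, l1_K16_2, l1_K16_3, 0] (fun D K => Nat.beq D l1_D0 && beqL K [l1_K17_0, 0, l1_K17_2, l1_K17_3, 0]) = true := by decide +kernel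
theorem l1_r18 : l1_E.run [8, 4104, 13, 8200, 4, 9, 16, 0, 4112, 9, 4, 9, 4104, 13, 4, 9, 16, 0, 8, 12, 0, 4108, 9, 8204, 9, 16396, 9, 20492, 9, 24588, 9, 4, 9, 8, 4104, 13, 16, 0, 4112, 9, 4, 9, 4104, 13, 8200, 4, 9, 4112, 9, 4, 9, 8, 12, 0, 4108, 9, 8204, 9] l1_D0 [l1_K17_0, 0, l1_K17_2, l1_K17_3, 0] (fun D K => Nat.beq D l1_D0 && beqL K [l1_K18_0, 0, l1_K18_2, l1_K18_3, 0]) = true := by decide +kernel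
theorem l1_r19 : l1_E.run [12300, 0, 16396, 9, 20492, 9, 24588, 9, 4, 9, 8, 4104, 13, 8200, 4, 9, 16, 0, 4112, 9, 4, 9, 8, 4104, 13, 8200, 4, 9, 4112, 9, 4, 9, 4104, 13, 8200, 4, 9, 16, 0, 12, 0, 4108, 9, 8204, 9, 12300, 0, 16396, 9, 20492, 9, 24588, 9, 4, 9, 8, 4104, 13] l1_D0 [l1_K18_0, 0, l1_K18_2, l1_K18_3, 0] (fun D K => Nat.beq D l1_D0 && beqL K [l1_K19_0, 0, l1_K19_2, l1_K19_3, 0]) = true := by decide +kernel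
theorem l1_r20 : l1_E.run [8200, 4, 9, 16, 0, 4112, 9, 4, 9, 8, 4104, 13, 8200, 4, 9, 8, 12, 0, 4108, 9, 8204, 9, 12300, 0, 16396, 9, 20492, 9, 24588, 9, 4, 9, 8, 4104, 13, 8200, 4, 9, 8, 4104, 13, 4, 9, 8, 16, 0, 4112, 9, 4, 9, 8, 4104, 13, 8200, 4, 9, 16, 0, 4112, 9, 4, 9] l1_D0 [l1_K19_0, 0, l1_K19_2, l1_K19_3, 0] (fun D K => Nat.beq D l1_D0 && beqL K [l1_K20_0, 0, l1_K20_2, l1_K20_3, 0]) = true := by decide +kernel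
theorem l1_r21 : l1_E.run [8, 4104, 13, 4, 9, 4104, 13, 4, 9, 8, 8, 4104, 13, 16, 0, 12, 0, 4108, 9, 8204, 9, 12300, 0, 16396, 9, 20492, 9, 24588, 9, 4, 9, 8, 4104, 13, 8200, 4, 9, 8, 4104, 13, 16, 0, 4112, 9, 4, 9, 8, 4104, 13, 8200, 4, 9, 16, 0, 4112, 9, 4, 9, 8, 4104, 13] l1_D0 [l1_K20_0, 0, l1_K20_2, l1_K20_3, 0] (fun D K => Nat.beq D l1_D0 && beqL K [l1_K21_0, 0, l1_K21_2, l1_K21_3, 0]) = true := by decide +kernel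
theorem l1_r22 : l1_E.run [8200, 4, 9, 8, 16, 0, 12, 0, 4108, 9, 8204, 9, 12300, 0, 16396, 9, 20492, 9, 24588, 9, 4, 9, 8, 4104, 13, 8200, 12296, 9, 4, 9, 8, 8200, 16, 0, 4112, 9, 4, 9, 8, 4104, 13, 8200, 4, 9, 16, 0, 4112, 9, 4104, 13, 8200, 12, 0, 4108, 9] l1_D0 [l1_K21_0, 0, l1_K21_2, l1_K21_3, 0] (fun D K => Nat.beq D l1_D0 && beqL K [l1_K22_0, 0, l1_K22_2, l1_K22_3, 0]) = true := by decide +kernel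
theorem l1_r23 : l1_E.run [8204, 9, 12300, 0, 16396, 9, 20492, 9, 24588, 9, 4, 9, 8, 4104, 13, 8200, 4, 9, 8, 4104, 13, 8200, 16, 0, 4112, 9, 4, 9, 8, 4104, 13, 8200, 12296, 9, 4, 9, 8200, 16, 0, 4112, 9, 4, 9, 4104, 13, 8200, 4, 9, 16, 0, 4112, 9, 12, 0, 4108, 9, 8204, 9] l1_D0 [l1_K22_0, 0, l1_K22_2, l1_K22_3, 0] (fun D K => Nat.beq D l1_D0 && beqL K [l1_K23_0, 0, l1_K23_2, l1_K23_3, 0]) = true := by decide +kernel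
theorem l1_r24 : l1_E.run [12300, 0, 16396, 9, 20492, 9, 24588, 9, 4, 9, 8, 4104, 13, 8200, 4, 9, 8, 8200, 16, 0, 4112, 9, 4, 9, 8, 4104, 13, 8200, 4, 9, 4104, 13, 8200, 4, 9, 4104, 13, 16, 0, 4112, 9, 4, 9, 8, 4104, 13, 8200, 4, 9, 4104, 13, 4, 9, 16, 0, 4112, 9, 4, 9, 4104, 13, 8200, 12, 0] l1_D0 [l1_K23_0, 0, l1_K23_2, l1_K23_3, 0] (fun D K => Nat.beq D l1_D0 && beqL K [l1_K24_0, 0, l1_K24_2, l1_K24_3, 0]) = true := by decide +kernel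
theorem l1_r25 : l1_E.run [4108, 9, 8204, 9, 12300, 0, 16396, 9, 20492, 9, 24588, 9, 4, 9, 8, 4104, 13, 8200, 4, 9, 8, 4104, 13, 8200, 16, 0, 4112, 9, 4, 9, 8, 4104, 13, 8200, 4, 9, 8200, 16, 0, 4112, 9, 4, 9, 8, 4104, 13, 8200, 4, 9, 16, 0, 4112, 9, 4, 9, 4104, 13, 4, 9, 4112, 9, 8] l1_D0 [l1_K24_0, 0, l1_K24_2, l1_K24_3, 0] (fun D K => Nat.beq D l1_D0 && beqL K [l1_K25_0, 0, l1_K25_2, l1_K25_3, 0]) = true := by decide +kernel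
theorem l1_r26 : l1_E.run [16, 0, 4104, 13, 4, 9, 4104, 13, 12, 0, 4108, 9, 8204, 9, 12300, 0, 16396, 9, 20492, 9, 24588, 9, 4, 9, 8, 4104, 13, 8200, 12296, 9, 4, 9, 8, 4104, 13, 8200, 16, 0, 4112, 9, 4, 9, 8, 4104, 13, 8200, 4, 9, 16, 0, 4112, 9, 4, 9, 4104, 13, 8200, 4, 9, 4112, 9, 4, 9] l1_D0 [l1_K25_0, 0, l1_K25_2, l1_K25_3, 0] (fun D K => Nat.beq D l1_D0 && beqL K [l1_K26_0, 0, l1_K26_2, l1_K26_3, 0]) = true := by decide +kernel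
theorem l1_r27 : l1_E.run [4104, 13, 16, 0, 8200, 12296, 9, 12, 0, 4108, 9, 8204, 9, 12300, 0, 16396, 9, 20492, 9, 24588, 9, 4, 9, 8, 4104, 13, 8200, 4, 9, 8, 16, 0, 4112, 9, 4, 9, 8, 4104, 13, 8200, 4, 9, 4112, 9, 4104, 13, 4, 9, 12, 0, 4108, 9, 8204, 9, 12300, 0] l1_D0 [l1_K26_0, 0, l1_K26_2, l1_K26_3, 0] (fun D K => Nat.beq D l1_D0 && beqL K [l1_K27_0, 0, l1_K27_2, l1_K27_3, 0]) = true := by decide +kernel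
theorem l1_r28 : l1_E.run [16396, 9, 20492, 9, 24588, 9, 4, 9, 8, 4104, 13, 8200, 8, 8200, 8200, 16, 0, 4112, 9, 4, 9, 8, 4104, 13, 4, 9, 8, 4104, 13, 4, 9, 16, 0, 4112, 9, 4104, 13, 8200, 4, 9, 12, 0, 4108, 9, 8204, 9, 16396, 9, 20492, 9, 24588, 9, 4, 9, 8, 4104, 13, 4, 9] l1_D0 [l1_K27_0, 0, l1_K27_2, l1_K27_3, 0] (fun D K => Nat.beq D l1_D0 && beqL K [l1_K28_0, 0, l1_K28_2, l1_K28_3, 0]) = true := by decide +kernel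
theorem l1_r29 : l1_E.run [16, 0, 4112, 9, 4, 9, 12, 0, 4108, 9, 8204, 9, 12300, 0, 16396, 9, 4, 9, 8, 8200, 16, 0, 4112, 9, 4, 9, 8, 4104, 13, 8200, 4, 9, 8200, 12, 0, 4108, 9, 8204, 9, 16396, 9, 20492, 9, 4, 9, 8, 4104, 13, 8200, 16, 0, 4108, 9] l1_D0 [l1_K28_0, 0, l1_K28_2, l1_K28_3, 0] (fun D K => Nat.beq D l1_D0 && beqL K [l1_K29_0, 0, l1_K29_2, l1_K29_3, 0]) = true := by decide +kernel

end Cfsg.Agent.HNK
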