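import Cfsg.Agent.HNK.L1D0

set_option autoImplicit false
set_option Elab.async false
set_option maxRecDepth 100000
set_option linter.all false

namespace Cfsg.Agent.HNK
open Cfsg.Agent.CGT

theorem l1_r30 : l1_E.run [20492, 9, 4, 9, 8204, 9, 4, 9, 8204, 9, 20, 0, 4116, 9, 8212, 0, 12308, 9, 16404, 9, 20500, 9, 4, 9, 8, 4104, 13, 8200, 4, 9, 16, 0, 4112, 9, 4, 9, 4104, 13, 8200, 4, 9, 12, 0, 4108, 9, 8204, 9, 12300, 0, 16396, 9, 20492, 9] l1_D0 [l1_K29_0, 0, l1_K29_2, l1_K29_3, 0] (fun D K => Nat.beq D l1_D0 && beqL K [l1_K30_0, 0, l1_K30_2, l1_K30_3, 0]) = true := by decide +kernel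
theorem l1_r31 : l1_E.run [24588, 9, 4, 9, 8, 4104, 13, 4, 9, 8, 16, 0, 4112, 9, 4, 9, 4104, 13, 8200, 16, 0, 4112, 9, 12, 0, 4108, 9, 12300, 0, 16396, 9, 20492, 9, 24588, 9, 4, 9, 4104, 13, 4, 9, 16, 0, 4112, 9, 8, 8200, 16396, 9, 20492, 9, 4, 9, 4104, 13, 16396, 9] l1_D0 [l1_K30_0, 0, l1_K30_2, l1_K30_3, 0] (fun D K => Nat.beq D l1_D0 && beqL K [l1_K31_0, 0, l1_K31_2, l1_K31_3, 0]) = true := by decide +kernel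
theorem l1_r32 : l1_E.run [20492, 9, 4, 9, 12, 0, 16396, 9, 4, 9, 20, 0, 4116, 9, 8212, 0, 12308, 9, 16404, 9, 20500, 9, 4, 9, 8, 4104, 13, 8200, 4, 9, 16, 0, 4112, 9, 4, 9, 8, 4104, 13, 8200, 4, 9, 8, 16, 0, 4112, 9, 4, 9, 8, 4112, 9, 12, 0] l1_D0 [l1_K31_0, 0, l1_K31_2, l1_K31_3, 0] (fun D K => Nat.beq D l1_D0 && beqL K [l1_K32_0, 0, l1_K32_2, l1_K32_3, 0]) = true := by decide +kernel
theorem l1_r33 : l1_E.run [4108, 9, 8204, 9, 12300, 0, 16396, 9, 20492, 9, 24588, 9, 4, 9, 8, 4104, 13, 8200, 4, 9, 8200, 8200, 16, 0, 4112, 9, 4, 9, 8, 4104, 13, 8200, 4, 9, 16, 0, 4112, 9, 4, 9, 8, 4104, 13, 8200, 4, 9, 16, 0, 4112, 9, 4, 9, 8, 4104, 13, 8200, 4, 9, 4112, 9] l1_D0 [l1_K32_0, 0, l1_K32_2, l1_K32_3, 0] (fun D K => Nat.beq D l1_D0 && beqL K [l1_K33_0, 0, l1_K33_2, l1_K33_3, 0]) = true := by decide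 +kernel
theorem l1_r34 : l1_E.run [12, 0, 4108, 9, 8204, 9, 12300, 0, 16396, 9, 20492, 9, 24588, 9, 4, 9, 8, 4104, 13, 4, 9, 8, 4104, 13, 16, 0, 4112, 9, 4, 9, 4104, 13, 4, 9, 12, 0, 4108, 9, 8204, 9, 12300, 0, 20492, 9, 4, 9, 4104, 13, 16, 0, 4112, 9, 4, 9, 8200, 12300, 0] l1_D0 [l1_K33_0, 0, l1_K33_2, l1_K33_3, 0] (fun D K => Nat.beq D l1_D0 && beqL K [l1_K34_0, 0, l1_K34_2, l1_K34_3, 0]) = true := by decide +kernel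
theorem l1_r35 : l1_E.run [20492, 9, 4, 9, 4104, 13, 20, 0, 4116, 9, 8212, 0, 12308, 9, 16404, 9, 20500, 9, 4, 9, 8, 4104, 13, 8200, 4, 9, 16, 0, 4112, 9, 4, 9, 4104, 13, 4, 9, 8, 4112, 9, 12, 0, 4108, 9, 12300, 0, 16396, 9, 20492, 9, 24588, 9, 4, 9, 8] l1_D0 [l1_K34_0, 0, l1_K34_2, l1_K34_3, 0] (fun D K => Nat.beq D l1_D0 && beqL K [l1_K35_0, 0, l1_K35_2, l1_K35_3, 0]) = true := by decide +kernel
theorem l1_r36 : l1_E.run [4104, 13, 8200, 4, 9, 16, 0, 4112, 9, 4, 9, 8, 4104, 13, 8200, 8204, 9, 12300, 0, 16396, 9, 20492, 9, 24588, 9, 4, 9, 8, 4104, 13, 8200, 16, 0, 4112, 9, 4, 9, 8, 4104, 13, 4, 9, 4108, 9, 20492, 9, 4, 9, 4104, 13, 4112, 9, 16396, 9, 4, 9, 16396, 9, 4, 9, 4104, 13] l1_D0 [l1_K35_0, 0, l1_K35_2, l1_K35_3, 0] (fun D K => Nat.beq D l1_D0 && beqL K [l1_K36_0, 0, l1_K36_2, l1_K36_3,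 0]) = true := by decide +kernel
theorem l1_r37 : l1_E.run [4116, 9, 8212, 0, 12308, 9, 16404, 9, 20500, 9, 4, 9, 8, 4104, 13, 8200, 12296, 9, 4, 9, 8200, 8200, 16, 0, 4112, 9, 4, 9, 8, 4104, 13, 8200, 4, 9, 8, 8200, 8, 8200, 8200, 16, 0, 8, 4104, 13, 4, 9, 12, 0, 4108, 9, 8204, 9] l1_D0 [l1_K36_0, 0, l1_K36_2, l1_K36_3, 0] (fun D K => Nat.beq D l1_D0 && beqL K [l1_K37_0, 0, l1_K37_2, l1_K37_3, 0]) = true := by decide +kernel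
theorem l1_r38 : l1_E.run [12300, 0, 16396, 9, 20492, 9, 24588, 9, 4, 9, 8, 4104, 13, 8200, 12296, 9, 4, 9, 4104, 13, 16, 0, 4112, 9, 4, 9, 8, 4104, 13, 8200, 4, 9, 16, 0, 4112, 9, 4, 9, 4104, 13, 12, 0, 4108, 9, 8204, 9, 12300, 0, 16396, 9, 20492, 9, 24588, 9, 4, 9, 8, 4104, 13] l1_D0 [l1_K37_0, 0, l1_K37_2, l1_K37_3, 0] (fun D K => Nat.beq D l1_D0 && beqL K [l1_K38_0, 0, l1_K38_2, l1_K38_3, 0]) = true := by decide +kernel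
theorem l1_r39 : l1_E.run [8200, 12296, 9, 4, 9, 8200, 16, 0, 4112, 9, 4, 9, 8, 4104, 13, 8200, 4, 9, 8, 8200, 16, 0, 4112, 9, 4104, 13, 4, 9, 4112, 9, 4104, 13, 12, 0, 4108, 9, 8204, 9, 12300, 0, 16396, 9, 20492, 9, 24588, 9, 4, 9, 8, 4104, 13, 8200, 4, 9, 16, 0, 4112, 9, 4, 9] l1_D0 [l1_K38_0, 0, l1_K38_2, l1_K38_3, 0] (fun D K => Nat.beq D l1_D0 && beqL K [l1_K39_0, 0, l1_K39_2, l1_K39_3, 0]) = true := by decide +kernel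
theorem l1_r40 : l1_E.run [4104, 13, 8200, 4, 9, 4104, 13, 4, 9, 4104, 13, 4112, 9, 4, 9, 4104, 13, 4, 9, 8, 16, 0, 4112, 9, 4, 9, 8, 4104, 13, 4, 9, 16, 0, 4104, 13, 4, 9, 12, 0, 4108, 9, 8204, 9, 12300, 0, 16396, 9, 20492, 9, 24588, 9, 4, 9, 8, 4104, 13, 8200, 12296, 9, 4, 9, 8, 4104, 13, 8200] l1_D0 [l1_K39_0, 0, l1_K39_2, l1_K39_3, 0] (fun D K => Nat.beq D l1_D0 && beqL K [l1_K40_0, 0, l1_K40_2, l1_K40_3, 0]) = true := by decide +kernel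
theorem l1_r41 : l1_E.run [8, 16, 0, 4112, 9, 4, 9, 8, 4104, 13, 8200, 4, 9, 8, 16, 0, 4112, 9, 4, 9, 8, 4104, 13, 8200, 4, 9, 16, 0, 12, 0, 4108, 9, 8204, 9, 12300, 0, 16396, 9, 20492, 9, 24588, 9, 4, 9, 8, 4104, 13, 8200, 12296, 9, 4, 9, 4104, 13, 8200, 4, 9, 16, 0, 4112] l1_D0 [l1_K40_0, 0, l1_K40_2, l1_K40_3, 0] (fun D K => Nat.beq D l1_D0 && beqL K [l1_K41_0, 0, l1_K41_2, l1_K41_3, 0]) = true := by decide +kernel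
theorem l1_r42 : l1_E.run [9, 4, 9, 8, 4104, 13, 8200, 4, 9, 4104, 13, 4, 9, 16, 0, 4112, 9, 4, 9, 8, 4104, 13, 8200, 4, 9, 4112, 9, 12, 0, 4108, 9, 8204, 9, 12300, 0, 16396, 9, 20492, 9, 24588, 9, 4, 9, 8, 4104, 13, 8200, 12296, 9, 4, 9, 8, 4104, 13, 16, 0, 4112, 9, 4, 9, 8, 4104, 13, 8200] l1_D0 [l1_K41_0, 0, l1_K41_2, l1_K41_3, 0] (fun D K => Nat.beq D l1_D0 && beqL K [l1_K42_0, 0, l1_K42_2, l1_K42_3, 0]) = true := by decide +kernel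
theorem l1_r43 : l1_E.run [12296, 9, 4, 9, 16, 0, 4112, 9, 4, 9, 8, 4104, 13, 4, 9, 4104, 13, 4, 9, 16, 0, 4112, 9, 4, 9, 4104, 13, 4, 9, 12, 0, 4108, 9, 8204, 9, 12300, 0, 16396, 9, 20492, 9, 24588, 9, 4, 9, 8, 4104, 13, 8200, 12296, 9, 4, 9, 8, 8200, 12296, 9, 4, 9, 8, 16, 0, 4112, 9, 4, 9] l1_D0 [l1_K42_0, 0, l1_K42_2, l1_K42_3, 0] (fun D K => Nat.beq D l1_D0 && beqL K [l1_K43_0, 0, l1_K43_2, l1_K43_3, 0]) = true := by decide +kernel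
theorem l1_r44 : l1_E.run [8, 4104, 13, 8200, 4, 9, 8, 16, 0, 4112, 9, 4, 9, 8, 4104, 13, 8200, 8200, 16, 0, 4112, 9, 4, 9, 8, 4104, 13, 8200, 4, 9, 4104, 13, 4, 9, 8200, 12296, 9, 4, 9, 16, 0, 4112, 9, 4, 9, 8, 4104, 13, 8200, 4, 9, 16, 0, 4112, 9, 4104, 13, 4, 9, 12, 0, 4108, 9, 8204, 9] l1_D0 [l1_K43_0, 0, l1_K43_2, l1_K43_3, 0] (fun D K => Nat.beq D l1_D0 && beqL K [l1_K44_0, 0, l1_K44_2, l1_K44_3, 0]) = true := by decide +kernel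
theorem l1_r45 : l1_E.run [12300, 0, 16396, 9, 20492, 9, 24588, 9, 4, 9, 8, 4104, 13, 8200, 12296, 9, 4, 9, 8, 4104, 13, 8200, 12296, 9, 4, 9, 8200, 16, 0, 4112, 9, 4, 9, 8, 4104, 13, 8200, 4, 9, 8, 4104, 13, 8200, 4, 9, 16, 0, 4112, 9, 4, 9, 8, 4104, 13, 4, 9, 8, 4104, 13, 4, 9, 4112, 9, 4, 9, 4104, 13] l1_D0 [l1_K44_0, 0, l1_K44_2, l1_K44_3, 0] (fun D K => Nat.beq D l1_D0 && beqL K [l1_K45_0, 0, l1_K45_2, l1_K45_3, 0]) = true := by decide +kernel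
theorem l1_r46 : l1_E.run [12, 0, 4108, 9, 8204, 9, 12300, 0, 16396, 9, 20492, 9, 24588, 9, 4, 9, 8, 4104, 13, 8200, 12296, 9, 4, 9, 8, 4104, 13, 8200, 8, 16, 0, 4112, 9, 4, 9, 8, 4104, 13, 8200, 12296, 9, 4, 9, 8, 4104, 13, 8200, 4, 9, 8, 4104, 13, 4, 9, 16, 0, 4112, 9, 4, 9, 8] l1_D0 [l1_K45_0, 0, l1_K45_2, l1_K45_3, 0] (fun D K => Nat.beq D l1_D0 && beqL K [l1_K46_0, 0, l1_K46_2, l1_K46_3, 0]) = true := by decide +kernel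
theorem l1_r47 : l1_E.run [4104, 13, 8200, 12296, 9, 4, 9, 8, 4104, 13, 8200, 4, 9, 16, 0, 4112, 9, 4, 9, 8, 4104, 13, 8200, 4, 9, 4104, 13, 8200, 4, 9, 16, 0, 4112, 9, 4, 9, 8, 4104, 13, 8200, 4, 9, 8, 16, 0, 4112, 9, 4, 9, 4104, 13, 4, 9, 4104, 13, 12, 0, 4108, 9, 8204, 9, 12300, 0, 16396, 9] l1_D0 [l1_K46_0, 0, l1_K46_2, l1_K46_3, 0] (fun D K => Nat.beq D l1_D0 && beqL K [l1_K47_0, 0, l1_K47_2, l1_K47_3, 0]) = true := by decide +kernel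
theorem l1_r48 : l1_E.run [20492, 9, 24588, 9, 4, 9, 8, 4104, 13, 8200, 12296, 9, 4, 9, 8, 4104, 13, 8200, 4, 9, 8, 4104, 13, 8200, 16, 0, 4112, 9, 4, 9, 8, 4104, 13, 8200, 12296, 9, 4, 9, 8, 4104, 13, 8200, 12296, 9, 4, 9, 8200, 12296, 9, 16, 0, 4112, 9, 4, 9, 8, 4104, 13, 8200, 12296, 9, 4, 9, 8, 4104, 13, 4, 9] l1_D0 [l1_K47_0, 0, l1_K47_2, l1_K47_3, 0] (fun D K => Nat.beq D l1_D0 && beqL K [l1_K48_0, 0, l1_K48_2, l1_K48_3, 0]) = true := by decide +kernel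
theorem l1_r49 : l1_E.run [16, 0, 4112, 9, 4, 9, 4104, 13, 8200, 12296, 9, 4, 9, 4104, 13, 8200, 8, 16, 0, 4112, 9, 4, 9, 8, 4104, 13, 8200, 4, 9, 4104, 13, 8200, 12296, 9, 4, 9, 4104, 13, 4, 9, 8, 16, 0, 4112, 9, 4, 9, 8, 4104, 13, 4, 9, 16, 0, 8200, 16, 0, 12, 0, 4108, 9, 8204, 9, 12300, 0] l1_D0 [l1_K48_0, 0, l1_K48_2, l1_K48_3, 0] (fun D K => Nat.beq D l1_D0 && beqL K [l1_K49_0, 0, l1_K49_2, l1_K49_3, 0]) = true := by decide +kernel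

end Cfsg.Agent.HNK
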