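import Cfsg.Agent.HNK.L1D0

set_option autoImplicit false
set_option Elab.async false
set_option maxRecDepth 100000
set_option linter.all false

namespace Cfsg.Agent.HNK
open Cfsg.Agent.CGT

theorem l1_r50 : l1_E.run [16396, 9, 20492, 9, 24588, 9, 4, 9, 8, 4104, 13, 8200, 12296, 9, 4, 9, 8, 4104, 13, 8200, 12296, 9, 4, 9, 8, 4104, 13, 16, 0, 4112, 9, 4, 9, 8, 4104, 13, 8200, 12296, 9, 4, 9, 8, 4104, 13, 8200, 4, 9, 4104, 13, 4, 9, 8, 16, 0, 4112, 9, 4, 9, 8, 4104, 13, 8200, 12296, 9, 4, 9, 8] l1_D0 [l1_K49_0, 0, l1_K49_2, l1_K49_3, 0] (fun D K => Nat.beq D l1_D0 && beqL K [l1_K50_0, 0, l1_K50_2, l1_K50_3, 0]) = true := by decide +kernel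
theorem l1_r51 : l1_E.run [4104, 13, 8200, 4, 9, 4104, 13, 4, 9, 4104, 13, 16, 0, 4112, 9, 4, 9, 8, 4104, 13, 8200, 4, 9, 8, 4104, 13, 8200, 4, 9, 16, 0, 4112, 9, 4, 9, 8, 4104, 13, 8200, 4, 9, 8, 8200, 16, 0, 4112, 9, 4, 9, 4104, 13, 4, 9, 16, 0, 4112, 9, 4, 9, 4104, 13, 8200, 12296, 9, 4, 9, 16, 0, 4112, 9, 4, 9] l1_D0 [l1_K50_0, 0, l1_K50_2, l1_K50_3, 0] (fun D K => Nat.beq D l1_D0 && beqL K [l1_K51_0, 0, l1_K51_2, l1_K51_3, 0]) = true := by decide +kernel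
theorem l1_r52 : l1_E.run [8, 4104, 13, 4, 9, 4112, 9, 12, 0, 4108, 9, 8204, 9, 12300, 0, 16396, 9, 20492, 9, 24588, 9, 4, 9, 8, 4104, 13, 8200, 12296, 9, 4, 9, 8, 4104, 13, 8200, 12296, 9, 4, 9, 8, 4104, 13, 8200, 4, 9, 8, 16, 0, 4112, 9, 4, 9, 8, 4104, 13, 8200, 12296, 9, 4, 9, 8] l1_D0 [l1_K51_0, 0, l1_K51_2, l1_K51_3, 0] (fun D K => Nat.beq D l1_D0 && beqL K [l1_K52_0, 0, l1_K52_2, l1_K52_3, 0]) = true := by decide +kernel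
theorem l1_r53 : l1_E.run [4104, 13, 8200, 12296, 9, 4, 9, 8, 4104, 13, 8200, 4, 9, 16, 0, 4112, 9, 4, 9, 8, 4104, 13, 8200, 12296, 9, 4, 9, 8, 4104, 13, 8200, 12296, 9, 4, 9, 4104, 13, 8200, 12296, 9, 4, 9, 16, 0, 4112, 9, 4, 9, 8, 4104, 13, 8200, 12296, 9, 4, 9, 8, 4104, 13, 8200, 12296, 9, 4, 9, 8, 4104, 13, 4, 9, 16, 0] l1_D0 [l1_K52_0, 0, l1_K52_2, l1_K52_3, 0] (fun D K => Nat.beq D l1_D0 && beqL K [l1_K53_0, 0, l1_K53_2, l1_K53_3, 0]) = true := by decide +kernel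
theorem l1_r54 : l1_E.run [4112, 9, 4, 9, 8, 4104, 13, 8200, 4, 9, 8, 8200, 16, 0, 4112, 9, 4, 9, 8, 4104, 13, 8200, 4, 9, 8, 4112, 9, 8, 4112, 9, 4, 9, 4104, 13, 8200, 4, 9, 16, 0, 4112, 9, 4, 9, 12, 0, 4108, 9, 8204, 9, 12300, 0, 16396, 9, 20492, 9, 24588, 9, 4, 9, 8] l1_D0 [l1_K53_0, 0, l1_K53_2, l1_K53_3, 0] (fun D K => Nat.beq D l1_D0 && beqL K [l1_K54_0, 0, l1_K54_2, l1_K54_3, 0]) = true := by decide +kernel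
theorem l1_r55 : l1_E.run [4104, 13, 8200, 12296, 9, 4, 9, 8, 4104, 13, 8200, 12296, 9, 4, 9, 8, 4104, 13, 8200, 12296, 9, 4, 9, 8, 4104, 13, 8200, 4, 9, 4104, 13, 16, 0, 4112, 9, 4, 9, 8, 4104, 13, 8200, 12296, 9, 4, 9, 8, 4104, 13, 8200, 12296, 9, 4, 9, 8, 4104, 13, 8200, 12296, 9, 4, 9, 8, 4104, 13, 4, 9, 8, 16, 0] l1_D0 [l1_K54_0, 0, l1_K54_2, l1_K54_3, 0] (fun D K => Nat.beq D l1_D0 && beqL K [l1_K55_0, 0, l1_K55_2, l1_K55_3, 0]) = true := by decide +kernel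
theorem l1_r56 : l1_E.run [4112, 9, 4, 9, 8, 4104, 13, 8200, 12296, 9, 4, 9, 8, 4104, 13, 8200, 12296, 9, 4, 9, 8, 4104, 13, 8200, 12296, 9, 4, 9, 4104, 13, 8200, 4, 9, 8200, 8200, 16, 0, 4112, 9, 4, 9, 8, 4104, 13, 8200, 12296, 9, 4, 9, 8, 4104, 13, 8200, 12296, 9, 4, 9, 8, 4104, 13, 8200, 12296, 9, 4, 9, 8, 4104, 13, 8200] l1_D0 [l1_K55_0, 0, l1_K55_2, l1_K55_3, 0] (fun D K => Nat.beq D l1_D0 && beqL K [l1_K56_0, 0, l1_K56_2, l1_K56_3, 0]) = true := by decide +kernel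
theorem l1_r57 : l1_E.run [4, 9, 8200, 12296, 9, 4, 9, 4104, 13, 4, 9, 8200, 16, 0, 4112, 9, 4, 9, 8, 4104, 13, 8200, 12296, 9, 4, 9, 8, 4104, 13, 8200, 12296, 9, 4, 9, 8, 4104, 13, 8200, 12296, 9, 4, 9, 4104, 13, 4, 9, 4104, 13, 8200, 4, 9, 4104, 13, 4, 9, 16, 0, 4112, 9, 4, 9, 8, 4104, 13, 8200, 12296, 9, 4, 9, 8, 4104, 13, 8200, 12296, 9] l1_D0 [l1_K56_0, 0, l1_K56_2, l1_K56_3, 0] (fun D K => Nat.beq D l1_D0 && beqL K [l1_K57_0, 0, l1_K57_2, l1_K57_3, 0]) = true := by decide +kernel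
theorem l1_r58 : l1_E.run [4, 9, 8, 4104, 13, 8200, 12296, 9, 4, 9, 8, 4104, 13, 8200, 4, 9, 8, 4104, 13, 8200, 4, 9, 8, 4104, 13, 8200, 4, 9, 4104, 13, 8200, 12296, 9, 4, 9, 4104, 13, 16, 0, 4112, 9, 4, 9, 8, 4104, 13, 8200, 12296, 9, 4, 9, 8, 4104, 13, 8200, 12296, 9, 4, 9, 8, 4104, 13, 8200, 12296, 9, 4, 9, 8, 4104, 13, 8200] l1_D0 [l1_K57_0, 0, l1_K57_2, l1_K57_3, 0] (fun D K => Nat.beq D l1_D0 && beqL K [l1_K58_0, 0, l1_K58_2, l1_K58_3, 0]) = true := by decide +kernel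
theorem l1_r59 : l1_E.run [12296, 9, 4, 9, 8, 4104, 13, 4, 9, 8200, 16, 0, 4112, 9, 4, 9, 8, 4104, 13, 8200, 12296, 9, 4, 9, 8, 4104, 13, 8200, 12296, 9, 4, 9, 8, 4104, 13, 8200, 12296, 9, 4, 9, 8, 4104, 13, 8200, 12296, 9, 4, 9, 8, 4104, 13, 8200, 12296, 9, 4, 9, 8, 4104, 13, 8200, 4, 9, 4104, 13, 4, 9, 4104, 13, 4, 9, 4104, 13, 4, 9] l1_D0 [l1_K58_0, 0, l1_K58_2, l1_K58_3, 0] (fun D K => Nat.beq D l1_D0 && beqL K [l1_K59_0, 0, l1_K59_2, l1_K59_3, 0]) = true := by decide +kernel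
theorem l1_r60 : l1_E.run [8, 16, 0, 4112, 9, 4, 9, 8, 4104, 13, 8200, 12296, 9, 4, 9, 8, 4104, 13, 8200, 12296, 9, 4, 9, 8, 4104, 13, 8200, 12296, 9, 4, 9, 8, 4104, 13, 8200, 12296, 9, 4, 9, 8, 4104, 13, 8200, 12296, 9, 4, 9, 4104, 13, 8200, 12296, 9, 4, 9, 8, 4104, 13, 8200, 4, 9, 8200, 12296, 9, 4, 9, 4104, 13, 4, 9, 8200, 12296] l1_D0 [l1_K59_0, 0, l1_K59_2, l1_K59_3, 0] (fun D K => Nat.beq D l1_D0 && beqL K [l1_K60_0, 0, l1_K60_2, l1_K60_3, 0]) = true := by decide +kernel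
theorem l1_r61 : l1_E.run [9, 4, 9, 4104, 13, 16, 0, 4112, 9, 4, 9, 8, 4104, 13, 8200, 12296, 9, 4, 9, 8, 4104, 13, 8200, 4, 9, 8, 16, 0, 4112, 9, 4, 9, 8, 4104, 13, 8200, 12296, 9, 4, 9, 8, 4104, 13, 4, 9, 8, 4104, 13, 4, 9, 8, 4104, 13, 16, 0] l1_D0 [l1_K60_0, 0, l1_K60_2, l1_K60_3, 0] (Enum.done 94500 [0, 2]) = true := by decide +kernel

end Cfsg.Agent.HNK
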