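import Cfsg.Agent.HNK.L1_0
import Cfsg.Agent.HNK.L1_1
import Cfsg.Agent.HNK.L1_2
import Cfsg.Agent.HNK.L1_3

set_option autoImplicit false
set_option Elab.async false
set_option maxRecDepth 100000
set_option linter.all false

namespace Cfsg.Agent.HNK
open Cfsg.Agent.CGT

theorem l1_g : l1_S.goals l1_W 22943 = true := by decide +kernel
theorem l1_mem {G : Type*} [Group G] {γ : ℕ → G} (hR : Holds (ext γ) l1_R) {H : Subgroup G}
    (hS : ∀ u ∈ l1_S0, ev (ext γ) u ∈ H) : ∀ u ∈ l1_W, ev (ext γ) u ∈ H :=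
  have hy := STC.hypOK_sound hR hS l1_h
  STC.Upto.goals ((((((((((STC.upto_zero).step hy l1_c0).step hy l1_c1).step hy l1_c2).step hy l1_c3).step hy l1_c4).step hy l1_c5).step hy l1_c6).step hy l1_c7).step hy l1_c8) l1_g
theorem l1_p : Holds (lp l1_ns) l1_R := ((holdsB_sound l1_v l1_p0).append ((holdsB_sound l1_v l1_p1).append ((holdsB_sound l1_v l1_p2).append (holdsB_sound l1_v l1_p3))))
theorem l1_fin {G : Type*} [Group G] {γ : ℕ → G} (hR : Holds (ext γ) l1_R) {H : Subgroup G}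
    (hS : ∀ u ∈ l1_S0, ev (ext γ) u ∈ H) : l1_E.Fin γ H 94500 [0, 2] :=
  have hy : l1_E.Hyp γ H := Enum.hyp_of l1_v hR l1_p (forall_mem_append' hS (l1_mem hR hS)) l1_f
  (Enum.fin_of_done hy (Enum.run_to hy (Enum.run_to hy (Enum.run_to hy (Enum.run_to hy (Enum.run_to hy (Enum.run_to hy (Enum.run_to hy (Enum.run_to hy (Enum.run_to hy (Enum.run_to hy (Enum.run_to hy (Enum.run_to hy (Enum.run_to hy (Enum.run_to hy (Enum.run_to hy (Enum.run_to hy (Enum.run_to hy (Enum.run_to hy (Enum.run_to hy (Enum.run_to hy (Enum.run_to hy (Enum.run_to hy (Enum.run_to hy (Enum.run_to hy (Enum.run_to hy (Enum.run_to hy (Enum.run_to hy (Enum.run_to hy (Enum.run_to hy (Enum.run_to hy (Enum.run_to hy (Enum.run_to hy (Enum.run_to hy (Enum.run_to hy (Enum.run_to hy (Enum.run_to hy (Enum.run_to hy (Enum.run_to hy (Enum.run_to hy (Enum.run_to hy (Enum.run_to hy (Enum.run_to hy (Enum.run_to hy (Enum.run_to hy (Enum.run_to hy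 (Enum.run_to hy (Enum.run_to hy (Enum.run_to hy (Enum.run_to hy (Enum.run_to hy (Enum.run_to hy (Enum.run_to hy (Enum.run_to hy (Enum.run_to hy (Enum.run_to hy (Enum.run_to hy (Enum.run_to hy (Enum.run_to hy (Enum.run_to hy (Enum.run_to hy (Enum.run_to hy (Enum.inv_init 5) l1_r0) l1_r1) l1_r2) l1_r3) l1_r4) l1_r5) l1_r6) l1_r7) l1_r8) l1_r9) l1_r10) l1_r11) l1_r12) l1_r13) l1_r14) l1_r15) l1_r16) l1_r17) l1_r18) l1_r19) l1_r20) l1_r21) l1_r22) l1_r23) l1_r24) l1_r25) l1_r26) l1_r27) l1_r28) l1_r29) l1_r30) l1_r31) l1_r32) l1_r33) l1_r34) l1_r35) l1_r36) l1_r37) l1_r38) l1_r39) l1_r40) l1_r41) l1_r42) l1_r43) l1_r44) l1_r45) l1_r46) l1_r47) l1_r48) l1_r49) l1_r50) l1_r51) l1_r52) l1_r53) l1_r54) l1_r55) l1_r56) l1_r57) l1_r58) l1_r59) l1_r60) l1_r61)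

end Cfsg.Agent.HNK
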