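import Cfsg.Agent.HNK.Rel
import Cfsg.Agent.HNK.L0
import Cfsg.Agent.HNK.L1
import Cfsg.Agent.HNO.Core

set_option autoImplicit false
set_option maxRecDepth 100000
set_option linter.style.haveILetI false

/-! The order of the group given by the first ten relators of the Harada–Norton group. -/

namespace Cfsg.Agent.HNK

open Cfsg.Agent.CGT Equiv

section
variable {G : Type*} [Group G]

theorem three_le {X : Type*} [Finite X] {a b c : X} (h1 : a ≠ b) (h2 : a ≠ c) (h3 : b ≠ c) :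
    3 ≤ Nat.card X := by
  classical
  haveI := Fintype.ofFinite X
  have := Finset.card_le_univ ({a, b, c} : Finset X)
  rw [Finset.card_insert_of_notMem (by simp [h1, h2]), Finset.card_pair h3] at this
  rwa [Nat.card_eq_fintype_card]

theorem four_le {X : Type*} [Finite X] {a b c d : X} (h1 : a ≠ b) (h2 : a ≠ c) (h3 : a ≠ d)
    (h4 : b ≠ c) (h5 : b ≠ d) (h6 : c ≠ d) : 4 ≤ Nat.card X := by
  classical
  haveI := Fintype.ofFinite X
  have := Finset.card_le_univ ({a, b, c, d} : Finset X)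
  rw [Finset.card_insert_of_notMem (by simp [h1, h2, h3]),
    Finset.card_insert_of_notMem (by simp [h4, h5]), Finset.card_pair h6] at this
  rwa [Nat.card_eq_fintype_card]

theorem sq_comm {N : Subgroup G} [hN : N.Normal] (hb : Bd N 3) (p : G) {n : G} (hn : n ∈ N) :
    p * p * n * (p * p)⁻¹ = n := by
  by_contra h
  haveI := hb.1
  have c1 : ∀ x y : G, p * x * p⁻¹ = p * y * p⁻¹ → x = y := fun x y e => by simpa using e
  have e2 : p * (p * n * p⁻¹) * p⁻¹ = p * p * n * (p * p)⁻¹ := by group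
  have n1 : n ≠ 1 := fun e => h (by rw [e]; group)
  have n2 : p * n * p⁻¹ ≠ n := fun e => h (by rw [← e2, e, e])
  have := four_le (X := N) (a := 1) (b := ⟨n, hn⟩) (c := ⟨_, hN.conj_mem _ hn p⟩)
    (d := ⟨_, hN.conj_mem _ (hN.conj_mem _ hn p) p⟩)
    (fun e => n1 (congrArg Subtype.val e).symm)
    (fun e => n1 (c1 _ _ ((congrArg Subtype.val e).symm.trans (by simp))))
    (fun e => n1 (c1 _ _ (c1 _ _ ((congrArg Subtype.val e).symm.trans (by simp)))))
    (fun e => n2 (congrArg Subtype.val e).symm)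
    (fun e => h (e2.symm.trans (congrArg Subtype.val e).symm))
    (fun e => n2 (c1 _ _ (congrArg Subtype.val e)).symm)
  have := hb.2
  omega

theorem swap_sq {N : Subgroup G} [hN : N.Normal] (hb : Bd N 3) {p u0 v0 u v g : G} (hg : g = p * p)
    (hu : u = u0 * u0) (hv : v = v0 * v0) (h1 : u * v * u⁻¹ * v⁻¹ ∈ N) (h2 : g * u * g⁻¹ * v⁻¹ ∈ N)
    (h3 : g * v * g⁻¹ * u⁻¹ ∈ N) : (u * v * u⁻¹ * v⁻¹) ^ 2 = 1 := by
  have cu : ∀ n ∈ N, Commute u n := fun n hn => mul_inv_eq_iff_eq_mul.1 (hu ▸ sq_comm hb u0 hn)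
  have cv : ∀ n ∈ N, Commute v n := fun n hn => mul_inv_eq_iff_eq_mul.1 (hv ▸ sq_comm hb v0 hn)
  have e1 : g * (u * v * u⁻¹ * v⁻¹) * g⁻¹ = u * v * u⁻¹ * v⁻¹ := hg ▸ sq_comm hb p h1
  obtain ⟨a, ha⟩ : ∃ a, a = g * u * g⁻¹ * v⁻¹ := ⟨_, rfl⟩
  obtain ⟨b, hb'⟩ : ∃ b, b = g * v * g⁻¹ * u⁻¹ := ⟨_, rfl⟩
  rw [← ha] at h2
  rw [← hb'] at h3
  have e2 : g * (u * v * u⁻¹ * v⁻¹) * g⁻¹ = (a * v) * (b * u) * (a * v)⁻¹ * (b * u)⁻¹ := by
    rw [ha, hb']; group
  have c1 := cu a h2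
  have c2 := cv a h2
  have c3 := cu b h3
  have c4 := cv b h3
  have e3 : (a * v) * (b * u) * (a * v)⁻¹ * (b * u)⁻¹ = (a * b * a⁻¹ * b⁻¹) * (v * u * v⁻¹ * u⁻¹) := by
    have k1 : v * b = b * v := c4.eq
    have k2 : Commute (v * u * v⁻¹) a⁻¹ := ((c2.mul_left c1).mul_left c2.inv_left).inv_right
    have k3 : Commute (v * u * v⁻¹ * u⁻¹) b⁻¹ :=
      (((c4.mul_left c3).mul_left c4.inv_left).mul_left c3.inv_left).inv_right
    calc _ = a * (v * b) * u * v⁻¹ * a⁻¹ * u⁻¹ * b⁻¹ := by group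
      _ = a * b * ((v * u * v⁻¹) * a⁻¹) * u⁻¹ * b⁻¹ := by rw [k1]; group
      _ = a * b * a⁻¹ * ((v * u * v⁻¹ * u⁻¹) * b⁻¹) := by rw [k2.eq]; group
      _ = _ := by rw [k3.eq]; group
  have e4 : a * b * a⁻¹ * b⁻¹ = 1 := by
    by_contra h
    haveI := hb.1
    have a1 : a ≠ 1 := fun e => h (by rw [e]; group)
    have b1 : b ≠ 1 := fun e => h (by rw [e]; group)
    have ab : a ≠ b := fun e => h (by rw [e]; group)
    have := four_le (X := N) (a := 1) (b := ⟨a, h2⟩) (c := ⟨b, h3⟩) (d := ⟨_, N.mul_mem h2 h3⟩)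
      (fun e => a1 (congrArg Subtype.val e).symm) (fun e => b1 (congrArg Subtype.val e).symm)
      (fun e => h (by
        have : a * b = 1 := (congrArg Subtype.val e).symm
        rw [eq_inv_of_mul_eq_one_left this]; group))
      (fun e => ab (congrArg Subtype.val e))
      (fun e => b1 (left_eq_mul.1 (congrArg Subtype.val e)))
      (fun e => a1 (right_eq_mul.1 (congrArg Subtype.val e)))
    have := hb.2
    omega
  rw [e2, e3, e4, one_mul] at e1
  rw [sq]
  nth_rewrite 1 [← e1]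
  group

theorem bd_zpowers {g : G} {n : ℕ} (hn : 0 < n) (h : g ^ n = 1) : Bd (Subgroup.zpowers g) n :=
  ⟨finite_zpowers.2 (isOfFinOrder_iff_pow_eq_one.2 ⟨n, hn, h⟩),
    by rw [Nat.card_zpowers]; exact orderOf_le_of_pow_eq_one hn h⟩

/-- Inverses of involutions are replaced by the involutions. -/
noncomputable def nrm (I w : List ℕ) : List ℕ :=
  w.map fun a => Bool.rec a (Nat.xor a 1) (memL (Nat.xor a 1) I)

theorem ev_nrm {γ : ℕ → G} {I : List ℕ} (hI : ∀ a ∈ I, ext γ a * ext γ a = 1) (w : List ℕ) :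
    ev (ext γ) (nrm I w) = ev (ext γ) w := by
  induction w with
  | nil => rfl
  | cons a w ih =>
    rw [nrm, List.map_cons, ev_cons, ev_cons, ← nrm, ih]
    congr 1
    cases h : memL (Nat.xor a 1) I
    · rfl
    · have := hI _ (memL_sound h)
      show ext γ (a ^^^ 1) = _
      rw [xor_eq] at this
      rw [eq_inv_of_mul_eq_one_left this, ext_xor_one, inv_inv]

theorem holds_nrm {γ : ℕ → G} {I : List ℕ} {D : List (List ℕ)} (h : Holds (ext γ) D)
    (hI : (allL I fun a => memLL [a, a] D) = true) :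
    Holds (ext γ) (D ++ D.map fun w => red I (nrm I w)) := h.append fun r hr => by
  obtain ⟨w, hw, rfl⟩ := List.mem_map.1 hr
  rw [ev_red (invol_sound h hI), ev_nrm (invol_sound h hI), h w hw]

theorem bd_xy {γ : ℕ → G} (hR : Holds (ext γ) l1_R) : Bd (gp γ [0, 2]) 756000 :=
  Bd.step (l1_fin hR (H := Subgroup.zpowers (ev (ext γ) [0, 2])) fun u hu => by
    rw [List.mem_singleton.1 hu]; exact Subgroup.mem_zpowers _)
    (bd_zpowers (n := 8) (by norm_num) (by
      rw [← ev_pw]; exact hR _ (memLL_sound (by decide +kernel)))) (by norm_num)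

theorem bd_xyz {γ : ℕ → G} (hR : Holds (ext γ) l0_R) {m : ℕ} (h : Bd (gp γ [0, 2]) m) :
    Bd (gp γ [0, 2, 4]) (352 * m) :=
  Bd.step (l0_fin hR (wordsIn_sound γ (L := [0, 2]) (by decide +kernel))) h rfl

theorem card_ker_mul {H : Type*} [Group H] (f : G →* H) :
    Nat.card G = Nat.card f.range * Nat.card f.ker := by
  rw [Subgroup.card_eq_card_quotient_mul_card_subgroup f.ker,
    Nat.card_congr (QuotientGroup.quotientKerEquivRange f).toEquiv]

end

/-- The commutator. -/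
noncomputable def cw : List ℕ := pw [2, 2, 0, 2, 2, 2, 0, 2] 2 ++ pw [2, 2, 2, 0, 2, 2, 0, 2, 2] 2 ++
  invW (pw [2, 2, 0, 2, 2, 2, 0, 2] 2) ++ invW (pw [2, 2, 2, 0, 2, 2, 0, 2, 2] 2)

theorem q_p : Holds (lp HNO.m_ns) l0_R := holdsB_sound HNO.m_v (by decide +kernel)

theorem mv2 : (gatW l1_ns (pw cw 2) 1).testBit 0 = false := by decide +kernel
theorem mv4 : (gatW l1_ns (pw cw 4) 1).testBit 0 = false := by decide +kernel

theorem cw_sq : ev (ext (pgγ 3 l0_R)) cw ^ 2 = 1 := by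
  have hR := pg_holds 3 l0_R
  have hg : gp (pgγ 3 l0_R) [0, 2, 4] = ⊤ := pg_gen _ (by decide +kernel)
  have h1 := (bd_xyz hR (bd_xy (hR.subR (by decide +kernel)))).top hg
  haveI := h1.1
  obtain ⟨φ, hφ⟩ := pg_perm (m := 3) (ns := HNO.m_ns) rfl q_p
  have M : Model φ (pgγ 3 l0_R) 7 HNO.m_ns HNO.m_ts := ⟨HNO.m_v, hφ, HNO.m_ts_ok⟩
  haveI : Finite φ.range := Finite.of_surjective _ φ.rangeRestrict_surjective
  have M' : Model φ.range.subtype (fun j => φ.rangeRestrict (pgγ 3 l0_R j)) 7 HNO.m_ns HNO.m_ts :=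
    ⟨HNO.m_v, hφ, HNO.m_ts_ok⟩
  have h2 := (HNO.c_sound M').le_card.trans (Subgroup.card_le_card_group _)
  rw [show chainCard HNO.c_ls = 88704000 by decide +kernel] at h2
  have h3 : Bd φ.ker 3 := ⟨inferInstance, by
    have := h1.2
    rw [card_ker_mul φ] at this
    by_contra hlt
    nlinarith⟩
  have key : ∀ w, eqW 7 HNO.m_ns w [] = true → ev (ext (pgγ 3 l0_R)) w ∈ φ.ker := fun w h => by
    rw [MonoidHom.mem_ker, M.map_ev']; exact eqW_sound HNO.m_v h
  have k1 := key cw (by decide +kernel)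
  have k2 := key (pw [0, 2, 0, 3, 4] 2 ++ pw [2, 2, 0, 2, 2, 2, 0, 2] 2 ++ invW (pw [0, 2, 0, 3, 4] 2) ++
    invW (pw [2, 2, 2, 0, 2, 2, 0, 2, 2] 2)) (by decide +kernel)
  have k3 := key (pw [0, 2, 0, 3, 4] 2 ++ pw [2, 2, 2, 0, 2, 2, 0, 2, 2] 2 ++
    invW (pw [0, 2, 0, 3, 4] 2) ++ invW (pw [2, 2, 0, 2, 2, 2, 0, 2] 2)) (by decide +kernel)
  simp only [cw, ev_append, ev_invW, ev_pw] at k1 k2 k3 ⊢
  exact swap_sq h3 (sq _) (sq _) (sq _) k1 k2 k3

theorem bd_q : Bd (gp (pgγ 3 l0_R) [0, 2, 4]) 88704000 := by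
  have hR := pg_holds 3 l0_R
  refine bd_xyz hR (m := 252000) ?_
  have hg : gp (pgγ 2 l1_R) [0, 2] = ⊤ := pg_gen _ (by decide +kernel)
  have h1 := (bd_xy (pg_holds 2 l1_R)).top hg
  haveI := h1.1
  obtain ⟨f, hf⟩ := pg_lift (m := 2) (R := l1_R) (p := wg (pgγ 3 l0_R) [[0], [2]])
    (fun j hj => wg_of_le _ hj) (hR.relsFrom (I := []) (by decide +kernel))
  obtain ⟨ψ, hψ⟩ := pg_perm (m := 2) (ns := l1_ns) rfl l1_p
  have mv : ∀ n, (gatW l1_ns (pw cw n) 1).testBit 0 = false → ev (ext (pgγ 2 l1_R)) cw ^ n ≠ 1 :=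
    fun n h e => by
      have e2 : ev (lp l1_ns) (pw cw n) = 1 := by
        rw [← map_one ψ, ← e, ← ev_pw, map_ev_ext, funext hψ]; rfl
      rw [testBit_gatW l1_v, e2] at h
      exact absurd h (by decide)
  have k1 : ev (ext (pgγ 2 l1_R)) cw ^ 2 ∈ f.ker := by
    rw [MonoidHom.mem_ker, map_pow, map_ev_ext, funext hf, ← ev_expand_dbl,
      show expand (dbl [[0], [2]]) cw = cw by decide +kernel]
    exact cw_sq
  have h2 := three_le (X := f.ker) (a := 1) (b := ⟨_, k1⟩) (c := ⟨_, f.ker.pow_mem k1 2⟩)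
    (fun e => mv 2 mv2 (congrArg Subtype.val e).symm)
    (fun e => mv 4 mv4 (by rw [show 4 = 2 * 2 from rfl, pow_mul]; exact (congrArg Subtype.val e).symm))
    (fun e => mv 2 mv2 (left_eq_mul.1 ((congrArg Subtype.val e).trans (sq _))))
  refine Bd.mono (L := f.range) ⟨Finite.of_surjective _ f.rangeRestrict_surjective, ?_⟩
    (gp_le fun a ha => ?_)
  · have := h1.2
    rw [card_ker_mul f] at this
    by_contra hlt
    nlinarith
  · simp only [List.mem_cons, List.not_mem_nil, or_false] at ha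
    rcases ha with rfl | rfl
    · exact ⟨_, (hf 0).trans (ev_singleton _ _)⟩
    · exact ⟨_, (hf 1).trans (ev_singleton _ _)⟩

theorem bd0 (hR : Holds (ext (pgγ 3 RR)) RR) : Bd (gp (pgγ 3 RR) [0, 2, 4]) 177408000 := by
  have hg : gp (pgγ 3 RR) [0, 2, 4] = ⊤ := pg_gen _ (by decide +kernel)
  have h1 := hR [0, 0, 2, 0, 0, 3] (by decide)
  have h3 := hR (pw [1, 2, 2, 0, 2, 2, 2] 3) (by decide +kernel)
  have h4 := hR [4, 4] (by decide)
  have h5 := hR [4, 0, 4, 0] (by decide)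
  rw [ev_pw] at h3
  simp only [ev_cons, ev_nil, mul_one, HNO.e0, HNO.e1, HNO.e2, HNO.e3, HNO.e4] at h1 h3 h4 h5
  obtain ⟨c1, c2, c3⟩ := HNO.central_aux h1 (by simpa only [mul_assoc] using h3) h4 h5
  generalize ha : pgγ 3 RR 0 * pgγ 3 RR 0 = a at c1 c2 c3
  have hc : ∀ k, Commute k a := fun k => by
    have : gp (pgγ 3 RR) [0, 2, 4] ≤ Subgroup.centralizer {a} := gp_le fun b hb => by
      rw [Subgroup.mem_centralizer_singleton_iff]
      simp only [List.mem_cons, List.not_mem_nil, or_false] at hb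
      rcases hb with rfl | rfl | rfl
      · rw [HNO.e0, ← ha, mul_assoc]
      · rw [HNO.e2]; exact c2
      · rw [HNO.e4]; exact c3
    exact Subgroup.mem_centralizer_singleton_iff.1 (this (hg ▸ Subgroup.mem_top k))
  haveI : (Subgroup.zpowers a).Normal := ⟨fun n hn g => by
    obtain ⟨m, rfl⟩ := hn
    rw [((hc g).zpow_right m).eq, mul_inv_cancel_right]
    exact ⟨m, rfl⟩⟩
  have hZ := bd_zpowers (n := 2) (by norm_num) ((sq a).trans c1)
  have hQ : Holds (ext (qg (Subgroup.zpowers a) (pgγ 3 RR))) ([[0, 0]] ++ RR) := holds_qg fun r hr => by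
    rcases List.mem_append.1 hr with h | h
    · rw [List.mem_singleton.1 h, ev_cons, ev_singleton, HNO.e0, ha]; exact Subgroup.mem_zpowers _
    · rw [hR r h]; exact Subgroup.one_mem _
  obtain ⟨f, hf⟩ := pg_lift (m := 3) (R := l0_R) (p := qg (Subgroup.zpowers a) (pgγ 3 RR))
    (fun j hj => by rw [qg, pg_one _ hj, map_one])
    ((holds_nrm (I := [0, 4]) hQ (by decide +kernel)).subR (by decide +kernel))
  have hs : Function.Surjective f := fun y => by
    obtain ⟨w, -, rfl⟩ := exists_word (gp_qg (Subgroup.zpowers a) hg ▸ Subgroup.mem_top y)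
    exact ⟨_, by rw [map_ev_ext, funext hf]⟩
  have h6 := bd_q.top (pg_gen _ (by decide +kernel))
  haveI := h6.1
  haveI := hZ.1
  haveI := Finite.of_surjective f hs
  haveI : Finite (PG 3 RR) := Finite.of_subgroup_quotient (Subgroup.zpowers a)
  have h7 := (Nat.card_le_card_of_surjective f hs).trans h6.2
  rw [hg]
  refine ⟨inferInstance, ?_⟩
  rw [Subgroup.card_top, Subgroup.card_eq_card_quotient_mul_card_subgroup (Subgroup.zpowers a)]
  exact (Nat.mul_le_mul h7 hZ.2).trans (by norm_num)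

end Cfsg.Agent.HNK
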