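import Cfsg.Agent.HNK.Bound
import Cfsg.Agent.HNK.Tabs

set_option autoImplicit false
set_option Elab.async false
set_option maxRecDepth 100000
set_option linter.all false

namespace Cfsg.Agent.HNK
open Cfsg.Agent.CGT

noncomputable def c_l0 : Level := ⟨0, [[0], [2], [4]], [0, 2, 0, 1, 0, 1, 2, 1, 0, 1, 2, 1, 0, 1, 2, 1, 0, 1, 2], 0xffffffffffffffffffffffffffffffffffffffffffffffffffffffffffffffffffffffffffffffffffffffffffffffffffffffffffffffffffffffffffffffffffffffffffffffffffffffffffffffffffffffffffffffffffffffffffffffffffffffffffffffffffffffffffffffffffffffffffffffffffffffffffffffffffffffffffffffffffffffffffffffffffffffffffffffffffffffffffffffffffffffffffffffffffffffffffffffff, 1408⟩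
noncomputable def c_l1 : Level := ⟨2, [[3], [1, 2, 0]], [0, 0, 0, 1, 0, 0, 0, 0, 1, 0, 0, 1, 0, 0], 0x1000000008000000000000000000000200008000000000000000000000004400000080000000000000000000000000000200020080000100000000000020000000000000800008000018a00000000000000000000000000000000002a0000000000000008000000040000000000000000000000130000000000000000000000030000000000000080002408000000400000000000040000000100520000000080000000a4002000281009044, 50⟩
noncomputable def c_l2 : Level := ⟨6, [[1, 2, 0, 3, 3, 1, 3, 0, 3], [1, 3, 0, 1, 3, 0, 2, 2, 1, 2, 0, 1, 2, 0, 2, 1, 2, 0, 3, 1, 3, 0, 2]], [0, 0, 1, 0, 0, 0, 1, 0, 0, 0, 0, 0], 0x1000000008000000000000000000000200008000000000000000000000004400000080000000000000000000000000000000000080000100000000000020000000000000800000000010a0000000000000000000000000000000000220000000000000008000000040000000000000000000000130000000000000000000000030000000000000080000408000000400000000000040000000100520000000080000000a4002000201009040, 42⟩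
noncomputable def c_l3 : Level := ⟨12, [[1, 2, 0, 3, 3, 1, 2, 0, 1, 2, 0, 2, 1, 3, 0, 1, 3, 0, 2, 2], [3, 1, 3, 0, 3, 3, 3, 1, 2, 0, 2]], [1, 0, 1, 0, 1, 0, 1, 0, 1, 0], 0x20000800000000000000000000000440000008000000000000000000000000000000000000000010000000000000000000000000080000000000080000000000000000000000000000000000020000000000000008000000040000000000000000000000130000000000000000000000030000000000000080000408000000400000000000040000000000520000000080000000a0002000001001000, 30⟩
noncomputable def c_l4 : Level := ⟨24, [[1, 3, 0, 3, 1, 2, 0, 2, 1, 3, 0, 3, 1, 2, 0, 2]], [0], 0x1000000000000000000000000000000000000000000000000000000000000000000000000000000001000000, 2⟩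
noncomputable def c_ls : List Level := [c_l0, c_l1, c_l2, c_l3, c_l4]
theorem c_l0_ok : (ptsOK 11 [] && (wordsIn [0, 2, 4] c_l0.S && c_l0.ok 11 m_ns m_ts [])) = true := by decide +kernel
theorem c_l1_ok : (ptsOK 11 [0] && (wordsIn [0, 2, 4] c_l1.S && c_l1.ok 11 m_ns m_ts [0])) = true := by decide +kernel
theorem c_l2_ok : (ptsOK 11 [2, 0] && (wordsIn [0, 2, 4] c_l2.S && c_l2.ok 11 m_ns m_ts [2, 0])) = true := by decide +kernel
theorem c_l3_ok : (ptsOK 11 [6, 2, 0] && (wordsIn [0, 2, 4] c_l3.S && c_l3.ok 11 m_ns m_ts [6, 2, 0])) = true := by decide +kernel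
theorem c_l4_ok : (ptsOK 11 [12, 6, 2, 0] && (wordsIn [0, 2, 4] c_l4.S && c_l4.ok 11 m_ns m_ts [12, 6, 2, 0])) = true := by decide +kernel
theorem c_sound {G : Type*} [Group G] {φ : G →* Equiv.Perm ℕ} {γ : ℕ → G}
    (M : Model φ γ 11 m_ns m_ts) : ChainSound φ (gp γ [0, 2, 4]) 11 [] c_ls :=
  ⟨Level.ok_sound' M c_l0_ok,
   Level.ok_sound' M c_l1_ok,
   Level.ok_sound' M c_l2_ok,
   Level.ok_sound' M c_l3_ok,
   Level.ok_sound' M c_l4_ok, trivial⟩
/-- the group -/
abbrev K : Type := PG 3 RR
/-- the generators -/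
noncomputable abbrev γ : ℕ → K := pgγ 3 RR
theorem gen_top : gp γ [0, 2, 4] = ⊤ := pg_gen _ (by decide +kernel)
theorem cert : ∃ φ, Cert φ γ 11 m_ns m_ts [0, 2, 4] c_ls := by
  obtain ⟨φ, hφ⟩ := pg_perm (m := 3) (ns := m_ns) rfl m_p
  have M : Model φ γ 11 m_ns m_ts := ⟨m_v, hφ, m_ts_ok⟩
  exact ⟨φ, Cert.of_bound M gen_top (c_sound M) ((bd0 (pg_holds _ _)).top gen_top) (by decide +kernel)⟩
theorem card_eq : Nat.card K = 177408000 := by
  obtain ⟨φ, C⟩ := cert
  exact C.card.trans (by decide +kernel)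
noncomputable def LW : List (List ℕ) := [[3], [1, 2, 0]]
theorem stab {G : Type*} [Group G] {φ : G →* Equiv.Perm ℕ} {γ : ℕ → G} (C : Cert φ γ 11 m_ns m_ts [0, 2, 4] c_ls) :
    ∀ h, φ h 0 = 0 → h ∈ gw γ LW :=
  C.stab_le (ls' := [c_l1, c_l2, c_l3, c_l4]) (chain_gw C.M (Ws := [[0], [2], [2, 0, 0, 3, 0], [3, 3, 1, 1, 2, 2, 1, 2, 0, 3, 1], [2, 0, 0, 2, 2, 1, 3, 3, 1, 1], [0, 3, 0, 0, 0, 2, 1], [3, 0, 2, 1, 3, 0, 2, 1]]) (by decide +kernel) (by decide +kernel)) le_rfl (by decide +kernel)

end Cfsg.Agent.HNK
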