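import Cfsg.Agent.HNK.Cert

set_option autoImplicit false
set_option Elab.async false
set_option maxRecDepth 100000
set_option linter.all false

namespace Cfsg.Agent.HNK
open Cfsg.Agent.CGT

noncomputable def dF0 : BT Fct := (.node 18 (.node 9 (.node 4 (.node 2 (.node 1 (.leaf ⟨0, 0, false, [0], [], []⟩) (.leaf ⟨0, 0, false, [2], [], []⟩)) (.node 1 (.leaf ⟨0, 0, false, [4], [], []⟩) (.leaf ⟨0, 1, true, [], [], []⟩))) (.node 2 (.node 1 (.leaf ⟨1, 1, false, [2], [], [-1]⟩) (.leaf ⟨1, 1, true, [3, 0, 3, 4, 0, 2, 2, 4, 2, 2, 4, 0, 2, 0, 2, 0, 3, 3, 4], [3, 3, 0, 2, 0, 2, 2, 0, 2, 0, 2, 2, 2, 0, 3, 0, 3, 3], [-1, 1, 0, -1, 0, 1]⟩)) (.node 1 (.leaf ⟨1, 1, true, [0, 3, 3, 0, 2, 0, 2, 2,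 0, 3, 0, 3, 3, 0, 3, 0, 3, 3], [2, 2, 0, 2, 0, 2, 2, 0, 2, 0, 3, 3, 0, 3, 0, 2, 2, 0], [2, -8, 0, -1, 0, 1]⟩) (.node 1 (.leaf ⟨1, 1, true, [0, 3, 3, 4, 3, 0, 2, 0, 3, 3, 0, 3, 3, 0, 3, 0], [4, 2, 0, 2, 2, 2, 0, 3, 3, 0, 3, 0, 3, 0, 3, 0], [9, -5, 0, 0, -1, 1]⟩) (.leaf ⟨1, 1, true, [3, 3, 1, 2, 0, 3, 3, 0, 3, 3, 0, 2, 2, 0, 2, 0, 3, 3, 4], [3, 4, 2, 4, 2, 4, 3, 3, 4, 2, 2, 2, 1, 2, 4, 2, 0, 2, 0], [-1, 2, 0, 0, -1, 1]⟩))))) (.node 4 (.node 2 (.node 1 (.leaf ⟨1, 1, false, [2, 0, 3, 3, 0, 2, 2, 2, 0, 3, 0], [], [11, -8]⟩) (.leaf ⟨1, 2, true, [4, 1], [], []⟩)) (.node 1 (.leaf ⟨2, 2, false, [1, 3, 0, 3, 0, 2, 2, 2, 0, 3, 3, 0, 2, 0], [], [-6, 11]⟩) (.leaf ⟨2, 2, false, [1, 2, 0, 3,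 3, 0, 2, 2, 2, 0, 3, 0, 3, 0], [], [15, -5]⟩))) (.node 2 (.node 1 (.leaf ⟨2, 1, true, [4, 2, 0, 3, 3, 4, 2, 4, 2, 2, 2, 0, 2, 2, 4, 0, 3, 4, 3, 3, 4], [2, 2, 0, 2, 2, 2, 1, 3, 0, 3, 3, 0, 2, 2, 0, 2, 0, 3, 3, 4, 0], [1, 4, 0, -1, -1, 2]⟩) (.leaf ⟨2, 2, false, [3, 3, 0, 2, 0, 2, 2, 0, 2, 2, 2, 0, 2, 0, 2, 2, 0], [], [-2, -1, 0, 1, 1, -3]⟩)) (.node 1 (.leaf ⟨2, 1, true, [4, 0, 2, 2, 0, 2, 2, 0, 3, 0, 3, 3, 0, 3, 0, 3, 3, 0, 2, 2, 0, 3], [4, 2, 0, 3, 3, 1, 2, 2, 0, 2, 0, 2, 2, 0, 2, 0, 3, 3, 0, 3, 3], [5, -4, 0, -1, -1, 2]⟩) (.node 1 (.leaf ⟨2, 2, false, [4, 0, 0], [], [-2, 6, 0, 1, 1, -3]⟩) (.leaf ⟨1, 3, true, [4, 0], [], []⟩)))))) (.node 9 (.node 4 (.node 2 (.node 1 (.leaf ⟨3, 3,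 false, [1, 2, 0, 2, 0, 2, 2, 2, 0, 2, 2, 0, 3, 0], [], [-15, 11]⟩) (.leaf ⟨3, 3, false, [1, 3, 0, 2, 2, 0, 2, 2, 2, 0, 2, 0, 2, 0], [], [6, -5]⟩)) (.node 1 (.leaf ⟨3, 3, true, [2, 0, 2, 0, 3, 3, 0, 3, 0, 3, 0, 2, 0, 2, 2, 0, 3, 3, 0, 2], [0, 2, 2, 1, 2, 0, 2, 2, 0, 3, 3, 0, 3, 0, 2, 0, 2, 0, 2], [-2, -11, -1, 1, 1, -1]⟩) (.leaf ⟨3, 1, true, [0, 2, 2, 2, 0, 2, 0, 3, 0, 3, 3, 0, 2, 2, 2, 0, 3, 0, 2, 0, 2, 2, 0], [0, 3, 4, 3, 4, 3, 1, 2, 4, 2, 2, 4, 2, 0, 3, 4, 2, 2, 0], [-1, 8, 0, -1, -1, 2]⟩))) (.node 2 (.node 1 (.leaf ⟨3, 2, true, [0, 2, 2, 2, 0, 3, 0, 2, 0, 2, 0, 2, 2, 2, 0, 2, 0, 2, 2], [2, 0, 2, 0, 2, 2, 2, 0, 2, 0, 2, 2, 0, 2, 0, 2, 2, 2, 0], [-4, 2, 0, -1, 0, 1]⟩) (.leaf ⟨3,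 1, true, [0, 4, 3, 1, 2, 2, 0, 2, 0, 2, 0, 3, 0, 3, 0, 2, 0, 2, 0], [2, 2, 1, 2, 2, 0, 2, 0, 2, 2, 0, 2, 0, 3, 0, 3, 0, 3, 4], [-2, 12, 0, 0, -2, 2]⟩)) (.node 1 (.leaf ⟨3, 3, false, [0, 4, 3, 3, 1, 2, 0, 2, 2, 0, 2, 2, 2, 0, 2, 0, 2, 2, 0], [], [5, -14, 0, 0, 2, -3]⟩) (.node 1 (.leaf ⟨1, 4, true, [4, 3, 4], [], []⟩) (.leaf ⟨4, 4, false, [1, 3, 3, 0, 3, 3, 0, 2, 0, 3, 3, 0, 2, 2, 2, 0], [], [28, -14]⟩))))) (.node 5 (.node 2 (.node 1 (.leaf ⟨4, 4, false, [3, 1, 2, 2, 2, 0, 2, 2, 0, 3, 0, 2, 2, 0, 2, 0, 2], [], [-22, 19]⟩) (.leaf ⟨4, 4, true, [4, 2, 2, 4, 3, 1, 3, 3, 4, 3, 0, 3, 4, 3, 3, 4, 2, 2, 4], [2, 4, 0, 2, 2, 2, 0, 3, 3, 4, 0, 3, 0, 2, 2, 0, 3, 3, 4, 3, 4], [27, -25, 0, -1,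 0, 1]⟩)) (.node 1 (.leaf ⟨4, 1, true, [0, 3, 3, 4, 3, 4, 0, 3, 3, 0, 3, 4, 0, 2, 0, 2, 0, 2, 2, 2, 0], [2, 0, 3, 3, 1, 3, 0, 2, 4, 2, 2, 4, 2, 0, 2, 0, 3, 4, 3, 4, 0], [25, -23, 0, 0, -2, 2]⟩) (.node 1 (.leaf ⟨4, 4, false, [0, 3, 3, 4, 2, 2, 2, 0, 3, 4, 3, 3, 0, 2, 2, 2, 4, 3], [], [-38, 32, 0, 0, 2, -3]⟩) (.leaf ⟨4, 1, true, [3, 0, 3, 4, 0, 2, 4, 2, 0, 2, 4, 2, 0, 2, 2, 4, 3, 0, 3], [2, 1, 2, 2, 4, 2, 4, 3, 4, 3, 0, 2, 2, 2, 0, 2, 2, 0], [68, -63, 0, 1, -5, 5]⟩)))) (.node 2 (.node 1 (.leaf ⟨3, 4, false, [2, 2, 0, 2, 4, 0, 2, 2, 4, 2, 2, 4, 2, 4, 0, 3, 0, 3, 0, 3, 3], [], [-44, 48, 0, -1, 5, -6]⟩) (.leaf ⟨3, 1, true, [0, 3, 0, 2, 4, 2, 2, 4, 2, 2, 4, 3, 1, 2, 0, 2, 2, 0, 2, 2],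 [4, 2, 4, 0, 0], [-39, 34, 0, -1, 7, -10]⟩)) (.node 1 (.leaf ⟨3, 3, true, [2, 0, 2, 2, 2, 4, 3, 4, 3, 4, 0, 3, 4, 2, 2, 2, 4, 2], [3, 4, 3, 4, 0, 2, 2, 4, 2, 4, 0, 2, 2, 4, 2, 4, 0, 2], [32, -39, 0, -1, 2, -2]⟩) (.node 1 (.leaf ⟨1, 3, true, [4, 3, 4], [2, 2, 0, 2, 4, 2, 4, 0, 3, 0, 3, 3, 4, 3, 3, 4, 0, 3, 0, 3, 3], [44, -48, 0, 1, -5, 6]⟩) (.leaf ⟨3, 3, true, [0, 3, 4, 3, 0, 2, 0, 2, 0, 2, 2, 4, 3, 3, 4, 3, 0, 3, 0, 2, 0], [2, 0, 3, 4, 2, 2, 1, 2, 2, 0, 2, 2, 2, 4, 2, 2, 4, 3, 3], [-49, 25, 0, 0, 9, -14]⟩)))))))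
noncomputable def dF37 : BT Fct := (.node 18 (.node 9 (.node 4 (.node 2 (.node 1 (.leaf ⟨2, 1, true, [2, 0, 2, 0, 4, 2, 0, 2, 0, 3, 0, 3, 0, 2, 0, 2, 0, 2, 2, 0, 3], [4, 3, 0, 2, 0, 2, 2, 0, 2, 0, 2, 2, 0, 2, 2, 4, 0, 2, 4], [-24, 16, 0, 1, 7, -13]⟩) (.leaf ⟨2, 2, false, [2, 2, 4, 2, 4, 0, 2, 4, 2, 4, 1, 2, 4, 3, 4, 0, 2, 0, 2, 2, 4, 2, 2], [], [27, -16, 0, -1, -7, 12]⟩)) (.node 1 (.leaf ⟨1, 5, true, [4, 3, 4, 1], [], []⟩) (.leaf ⟨5, 5, false, [3, 4, 0, 2, 0, 4, 2, 4, 2, 0, 3, 0, 3, 0, 2, 2, 2, 0, 3, 3, 4, 2], [], [-3, 5]⟩))) (.node 2 (.node 1 (.leaf ⟨5, 5, false, [2, 2, 2, 0, 2, 2, 0, 3, 0, 2, 2, 0, 2, 2], [], [-25, 17]⟩) (.leaf ⟨5, 3, true, [0, 2, 2, 2, 4, 2, 2, 0, 2, 2, 4, 3,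 3, 4, 0, 3, 3, 4, 0, 2, 0], [3, 0, 3, 1, 2, 2, 2, 4, 2, 0, 3, 3, 0, 2, 4, 3, 3, 0, 3], [74, -73, 0, 0, -5, 7]⟩)) (.node 1 (.leaf ⟨3, 5, true, [2, 4, 2, 0, 2, 4, 1, 2, 2, 2, 4, 3, 0, 2, 0, 2, 4, 2, 4, 3, 3], [0, 2, 0, 4, 3, 3, 4, 1, 3, 3, 4, 3, 3, 0, 3, 3, 4, 2, 2, 2, 0], [-69, 59, 0, 0, 7, -11]⟩) (.node 1 (.leaf ⟨5, 5, false, [2, 1, 3, 3, 0, 3, 0, 3, 3, 0, 2, 2, 0, 2, 0, 2], [], [-9, 12]⟩) (.leaf ⟨5, 3, true, [0, 2, 0, 3, 3, 0, 2, 0, 2, 2, 0, 2, 2, 0, 2, 0, 2, 2, 0], [0, 4, 3, 3, 4, 2, 2, 0, 2, 4, 2, 4, 2, 0, 3, 3, 0, 2, 0], [41, -51, 0, 0, -5, 7]⟩))))) (.node 4 (.node 2 (.node 1 (.leaf ⟨3, 5, true, [4, 0, 2, 0, 2, 4, 3, 3, 1, 2, 2, 2, 4, 2, 2, 4, 2, 2, 4, 0, 3], [0, 3, 3, 1, 3,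 0, 3, 3, 0, 3, 3, 0, 3, 0, 2, 2, 0, 3, 0], [-36, 37, 0, 0, 7, -11]⟩) (.leaf ⟨5, 5, true, [0, 2, 4, 2, 2, 4, 2, 2, 4, 3, 3, 1, 3, 3, 0, 2, 2, 4, 2, 0, 2, 0], [2, 2, 2, 4, 2, 4, 2, 1, 2, 0, 3, 4, 3, 4, 3, 3, 4, 2, 4, 0], [28, -22, 0, -1, 0, 1]⟩)) (.node 1 (.leaf ⟨5, 2, true, [4, 2, 0, 3, 3, 0, 2, 2, 2, 0, 2, 0, 2, 2, 0, 2, 0, 3, 0, 3, 0], [0, 2, 2, 0, 3, 3, 0, 3, 3, 4, 2, 2, 4, 2, 2, 4, 2, 0, 2], [-7, 0, 0, 0, -1, 1]⟩) (.leaf ⟨2, 5, true, [3, 0, 2, 0, 2, 0, 2, 0, 2, 4, 2, 0, 2, 0, 2, 2, 2, 0, 2, 0, 2], [4, 0, 2, 0, 2, 1, 3, 0, 3, 3, 0, 3, 0, 2, 2, 2, 0, 2, 2, 0, 3], [-5, 22, 0, 0, 1, -2]⟩))) (.node 2 (.node 1 (.leaf ⟨5, 5, false, [1, 2, 0, 2, 0, 2, 2, 4, 2, 4, 3, 4, 3, 4, 2], [],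 [19, -17, 0, 1, 1, -3]⟩) (.leaf ⟨5, 3, true, [2, 0, 2, 2, 4, 1, 2, 2, 0, 2, 2, 4, 0, 2, 0, 3, 3, 0, 3, 4, 3], [4, 2, 0, 3, 0, 3, 3, 0, 3, 0, 3, 0, 3, 0, 2], [16, -15, 0, 0, -1, 1]⟩)) (.node 1 (.leaf ⟨3, 5, true, [4, 3, 4, 3, 4, 2, 2, 4, 2, 2, 2, 0, 3, 4, 0, 3, 0, 3], [2, 4, 2, 0, 2, 2, 0, 3, 4, 0, 3, 3, 0, 3, 3, 4, 0, 3, 3, 0, 3], [-52, 42, 0, 0, 1, -2]⟩) (.node 1 (.leaf ⟨5, 1, true, [0, 2, 4, 2, 2, 2, 0, 2, 0, 2, 2, 0, 3, 3, 0, 3, 0, 3, 0, 3, 3], [3, 4, 0, 2, 2, 2, 0, 2, 0, 3, 3, 4, 2, 2, 4, 2, 2, 2, 4, 2, 0], [-19, 16, 0, -1, -3, 5]⟩) (.leaf ⟨5, 5, false, [2, 2, 0, 2, 0, 2, 4, 2, 2, 0, 3, 0, 3, 0, 2, 0, 2, 2, 0, 2], [], [30, -19, 0, 1, 3, -6]⟩)))))) (.node 9 (.node 4 (.node 2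 (.node 1 (.leaf ⟨5, 5, true, [3, 3, 4, 2, 2, 0, 2, 2, 4, 3, 3, 4, 0, 3, 0, 2, 0, 2, 0, 2], [4, 3, 1, 2, 2, 0, 3, 0, 3, 3, 0, 3, 3, 0, 3], [18, -8, 0, 0, -3, 4]⟩) (.leaf ⟨5, 5, true, [0, 4, 2, 4, 3, 4, 0, 3, 3, 4, 3, 0, 3, 3, 4, 3, 0, 2], [3, 3, 4, 3, 3, 4, 3, 3, 4, 2, 0, 2, 0, 2, 4, 2, 0, 2, 2, 0, 2], [-1, -16, 0, -4, -13, 25]⟩)) (.node 1 (.leaf ⟨1, 6, true, [4, 3, 4, 3, 4], [], []⟩) (.leaf ⟨6, 6, false, [4, 2, 2, 2, 1, 3, 0, 3, 3, 0, 2, 2, 4, 2, 2, 4, 0, 3, 4, 2], [], [-10, 7]⟩))) (.node 2 (.node 1 (.leaf ⟨6, 6, true, [3, 0, 2, 2, 2, 1, 3, 3, 0, 3, 0, 2, 2, 0, 3, 0, 3, 3, 0], [3, 4, 3, 3, 0, 3, 4, 0, 2, 0, 2, 0, 3, 3, 4, 3, 4, 0, 2, 0], [37, -30, 0, -1, 0, 1]⟩) (.leaf ⟨6, 6, true,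 [3, 0, 3, 3, 0, 2, 0, 2, 2, 0, 2, 0, 3, 3, 0, 2, 0, 3, 3], [2, 0, 4, 2, 4, 3, 3, 0, 2, 4, 2, 4, 2, 4, 2, 2, 2, 4, 3], [-21, 17, 0, -1, 0, 1]⟩)) (.node 1 (.leaf ⟨6, 6, false, [4, 3, 3, 0, 2, 2, 2, 0, 3, 4, 0, 3, 0, 2, 2, 2, 4, 3, 4, 0, 2, 0], [], [41, -39, 0, 2, 0, -3]⟩) (.node 1 (.leaf ⟨6, 5, true, [4, 2, 4, 2, 2, 2, 0, 2, 2, 0, 3, 4, 3, 4, 0, 3, 3, 4, 0, 3], [4, 0, 2, 2, 1, 3, 0, 3, 0, 2, 2, 2, 0, 2, 2, 0, 2, 0, 2, 0], [-19, 13, 0, 0, -1, 1]⟩) (.leaf ⟨5, 6, true, [0, 2, 0, 4, 2, 1, 3, 3, 4, 3, 3, 0, 3, 4, 0, 3, 4, 3, 4, 3], [2, 4, 0, 2, 2, 4, 1, 2, 4, 2, 0, 3, 3, 0, 2, 2, 2, 4, 3, 4], [-12, 11, 0, 0, 1, -2]⟩))))) (.node 5 (.node 2 (.node 1 (.leaf ⟨6, 6, false, [4, 0, 2, 2, 2,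 4, 2, 0, 3, 3, 4, 2, 2, 2, 4, 2, 4, 2, 2, 4, 3], [], [49, -41]⟩) (.leaf ⟨6, 3, true, [2, 4, 2, 4, 3, 4, 0, 3, 4, 2, 2, 4, 2, 2, 0, 2, 0], [3, 1, 3, 4, 0, 2, 2, 4, 2, 2, 2, 4, 3, 4, 0, 3, 3, 4], [83, -70, 0, -1, -6, 10]⟩)) (.node 1 (.leaf ⟨3, 6, true, [0, 3, 0, 3, 0, 3, 3, 4, 3, 3, 4, 3, 0, 2, 0, 2, 2, 2, 0, 2, 0, 2], [3, 4, 2, 4, 3, 3, 4, 2, 4, 1, 2, 4, 2, 2, 0, 3, 0], [-79, 78, 0, 1, 4, -8]⟩) (.node 1 (.leaf ⟨5, 6, true, [3, 3, 0, 2, 2, 4, 2, 4, 2, 1, 2, 2, 0, 2, 0, 2, 2, 2, 4, 0], [4, 3, 1, 2, 4, 2, 0, 2, 2, 0, 3, 4, 3, 3, 4, 2, 2, 4], [-65, 65, 0, 1, 10, -17]⟩) (.leaf ⟨6, 6, true, [4, 2, 0, 2, 4, 2, 1, 3, 4, 0, 3, 4, 2, 2, 4, 2, 2, 4, 2, 4, 3, 3], [3, 1, 3, 3, 0, 3, 3, 4, 3,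 3, 4, 3, 3, 4], [78, -83, 0, -2, -9, 16]⟩)))) (.node 2 (.node 1 (.leaf ⟨6, 6, true, [0, 3, 4, 2, 2, 4, 2, 4, 1, 3, 3, 4, 3, 3, 0, 2, 0, 2, 2], [3, 0, 3, 3, 1, 2, 0, 2, 4, 2, 0, 3, 4, 3, 3, 4, 2, 4, 2, 2, 0], [15, -27, 0, 0, -7, 10]⟩) (.leaf ⟨6, 6, false, [2, 2, 4, 2, 2, 2, 4, 2, 2, 1, 2, 2, 4, 2, 2, 2, 0, 3, 4, 3, 4], [], [-15, 29, 0, -2, 0, 3]⟩)) (.node 1 (.leaf ⟨6, 6, true, [4, 3, 0, 2, 0, 2, 0, 2, 2, 2, 0, 2, 2, 2, 0, 3, 3], [3, 0, 3, 4, 1, 3, 0, 3, 3, 0, 3, 0, 3, 3, 0, 2, 2, 0, 3, 3], [-5, 0, 0, -1, 0, 1]⟩) (.node 1 (.leaf ⟨2, 7, true, [3, 4, 1], [], []⟩) (.leaf ⟨7, 7, false, [0, 2, 0, 2, 0, 3, 3, 0, 2], [], [81, -41, 0, -4, -22, 39]⟩)))))))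
noncomputable def dF74 : BT Fct := (.node 18 (.node 9 (.node 4 (.node 2 (.node 1 (.leaf ⟨7, 7, false, [3, 1, 2, 0, 2, 2, 0, 2, 2, 2, 0, 3, 3, 0, 3, 0, 2], [], [-42, 35]⟩) (.leaf ⟨7, 7, false, [4, 2, 2, 4, 3, 4, 3, 4, 2, 4, 2, 1, 3, 3, 4], [], [52, -31, 0, -3, -15, 27]⟩)) (.node 1 (.leaf ⟨7, 5, true, [0, 3, 0, 3, 3, 1, 3, 3, 0, 2, 2, 0, 3, 3, 0, 2, 2, 0, 2, 2], [2, 0, 3, 4, 3, 1, 3, 0, 2, 0, 2, 2, 0, 2, 0, 3, 3, 0, 2, 0], [-8, 38, 0, 0, 2, -4]⟩) (.leaf ⟨7, 5, true, [2, 0, 3, 0, 3, 0, 2, 0, 2, 2, 2, 0, 3, 0, 2, 2, 0, 3, 0], [0, 3, 4, 2, 2, 4, 2, 2, 4, 2, 0, 2, 2, 2, 0, 2], [-17, 20, 0, -1, 1, -1]⟩))) (.node 2 (.node 1 (.leaf ⟨7, 7, true, [3, 4, 3, 3, 0, 2, 2, 0, 2, 2, 4, 3, 3, 4,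 3, 3, 4, 3, 0, 3], [2, 0, 2, 4, 2, 2, 4, 2, 2, 4, 3, 3, 0, 3, 3, 0, 2, 2, 4, 2], [7, 20, 0, 0, 1, -2]⟩) (.leaf ⟨7, 5, true, [3, 0, 3, 0, 2, 4, 0, 2, 0, 2, 2, 0, 2, 2, 0, 3, 3, 0, 2, 2, 0, 3], [2, 0, 3, 0, 3, 3, 0, 2, 2, 4, 3, 0, 2, 2, 0, 2, 2, 4, 2, 0], [40, -5, 0, 0, 6, -10]⟩)) (.node 1 (.leaf ⟨5, 7, true, [3, 4, 2, 4, 2, 4, 3, 3, 4, 3, 0, 2, 4, 2, 4, 0, 2, 2, 2, 0], [2, 0, 3, 3, 0, 2, 2, 0, 3, 4, 3, 0, 3, 3, 0, 3, 0, 3, 0, 2, 0, 2], [-81, 26, 0, -1, -11, 18]⟩) (.node 1 (.leaf ⟨7, 7, true, [4, 2, 0, 3, 3, 1, 2, 0, 2, 2, 4, 3, 4, 3, 4, 2, 4, 2, 0, 3, 0], [3, 3, 4, 0, 3, 0, 2, 0, 2, 2, 4, 2, 4, 2, 4, 0, 2, 4], [-108, 55, 0, 8, 43, -77]⟩) (.leaf ⟨7, 3, true, [4, 2, 1, 2, 0, 2, 2,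 2, 0, 2, 2, 2, 0, 3, 0, 3, 0], [4, 3, 0, 3, 0, 2, 2, 2, 0, 2, 2, 2, 0, 2, 0, 2, 2], [1, -4, 0, 1, -1, -1]⟩))))) (.node 4 (.node 2 (.node 1 (.leaf ⟨7, 7, true, [2, 4, 2, 0, 2, 0, 3, 0, 3, 0, 2, 0, 2, 0, 3, 0, 3, 0], [4, 3, 3, 4, 3, 1, 3, 4, 3, 4, 3, 3, 0, 2, 0, 2, 2, 4, 2, 4, 2, 4], [7, 1, 0, 2, 1, -5]⟩) (.leaf ⟨7, 7, false, [0, 3, 0, 2, 0, 2, 4, 2, 2, 4, 3, 3, 4, 3, 3, 0, 2, 0, 2, 2, 0, 2], [], [-57, 43, 0, 1, -1]⟩)) (.node 1 (.leaf ⟨7, 7, true, [2, 4, 2, 4, 2, 2, 1, 3, 0, 3, 3, 4, 3, 4, 3, 4, 2, 0, 2, 2, 0, 3], [3, 0, 3, 4, 3, 4, 0, 2, 2, 4, 2, 4, 2, 0, 2, 2, 4, 2], [-61, -7, 0, 11, 52, -95]⟩) (.leaf ⟨3, 7, true, [3, 4, 2, 2, 0, 2, 2, 0, 2, 2, 0, 2, 0, 3, 3, 0, 2, 0], [2, 2, 4,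 2, 2, 4, 2, 2, 4, 2, 2, 2, 0, 2, 0, 2, 0, 2], [-44, 18, 0, 0, 2, -3]⟩))) (.node 2 (.node 1 (.leaf ⟨7, 7, true, [3, 4, 3, 3, 0, 2, 2, 4, 2, 2, 0, 2, 0, 3, 3, 0, 3, 4, 3], [3, 4, 2, 4, 2, 1, 3, 0, 3, 3, 4, 3, 4, 0, 2, 2, 4, 0], [-31, -34, 0, 4, 23, -41]⟩) (.leaf ⟨7, 7, true, [2, 0, 4, 2, 2, 0, 3, 0, 2, 2, 0, 2, 2, 2, 0, 2, 0, 2, 2, 0], [2, 4, 2, 1, 2, 2, 0, 3, 0, 3, 3, 4, 3, 3, 0, 2, 2, 4, 2], [34, 5, 0, 0, -1, 1]⟩)) (.node 1 (.leaf ⟨6, 7, true, [0, 4, 3, 1, 3, 0, 2, 0, 2, 2, 0, 2, 2, 0, 2, 2, 0, 2], [2, 0, 2, 4, 2, 4, 3, 4, 0, 2, 2, 2, 0, 2, 2, 4, 3, 4, 0], [110, -143, 0, 2, -10, 12]⟩) (.node 1 (.leaf ⟨7, 6, true, [0, 4, 3, 1, 2, 4, 2, 4, 3, 4, 3, 0, 2, 4, 2, 2, 0, 2], [3, 0, 3,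 4, 3, 0, 3, 3, 0, 3, 3, 0, 3, 0, 2, 0, 2, 0], [-149, 149, 0, 2, 32, -52]⟩) (.leaf ⟨6, 7, true, [4, 3, 0, 3, 3, 0, 3, 3, 0, 2, 0, 3, 3, 0, 2, 2, 0], [2, 2, 4, 2, 2, 4, 2, 2, 4, 2, 2, 2, 0, 3, 0, 2, 2, 0, 2, 0], [-4, -28, 0, 1, -7, 9]⟩)))))) (.node 9 (.node 4 (.node 2 (.node 1 (.leaf ⟨7, 6, true, [0, 2, 2, 4, 2, 2, 0, 3, 0, 2, 2, 2, 4, 2, 2, 4, 2, 2, 0, 3, 3], [1, 3, 3, 0, 2, 4, 2, 0, 3, 0, 2, 2, 0, 2, 2, 0, 2], [-129, 100, 0, 6, 44, -76]⟩) (.leaf ⟨5, 7, true, [0, 2, 0, 2, 2, 4, 2, 2, 0, 2, 4, 2, 4, 0, 2, 0, 2, 2, 4, 2, 4, 2, 0], [4, 0, 3, 0, 2, 2, 2, 0, 3, 0, 3, 3, 0, 3, 0, 2, 2, 0, 2, 0], [-21, 4, 0, 1, -3, 3]⟩)) (.node 1 (.leaf ⟨7, 5, true, [2, 2, 0, 3, 0, 3, 4, 3, 3, 4, 2, 2,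 0, 2, 2, 4, 3, 3, 0], [0, 2, 4, 3, 0, 4, 3, 3, 1, 3, 0, 2, 0, 2, 0, 2, 2, 2, 4, 0, 2, 2, 0], [-31, 27, 0, 2, 18, -31]⟩) (.leaf ⟨6, 7, true, [4, 0, 2, 2, 4, 3, 3, 0, 3, 3, 0, 2, 2, 4, 0, 2, 0, 2, 2, 0, 3, 3, 4], [2, 2, 2, 0, 3, 3, 4, 3, 4, 2, 2, 4, 2, 2, 1, 3, 0, 2, 2, 4, 0, 2], [-5, -13, 0, -1, -9, 15]⟩))) (.node 2 (.node 1 (.leaf ⟨7, 6, true, [0, 3, 0, 2, 0, 2, 4, 1, 3, 0, 3, 4, 0, 3, 3, 4, 2, 2, 4, 2, 0, 2], [4, 2, 4, 2, 0, 2, 2, 4, 2, 0, 2, 2, 0, 3, 3, 0, 3, 4, 3, 4, 3, 4, 0], [-47, 44, 0, 4, 24, -43]⟩) (.leaf ⟨6, 7, true, [4, 3, 4, 2, 2, 2, 1, 3, 0, 2, 0, 2, 0, 2, 2, 2, 0, 3, 3], [4, 3, 4, 3, 1, 3, 0, 2, 4, 2, 2, 4, 3, 0, 3, 4, 2, 4, 2], [88, -149, 0, 4, -16, 18]⟩)) (.node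 1 (.leaf ⟨7, 6, true, [2, 0, 2, 1, 2, 4, 2, 2, 2, 0, 2, 2, 0, 2, 0, 2, 2, 2, 4, 0], [2, 2, 1, 2, 2, 2, 0, 3, 0, 3, 0, 2, 0, 2, 2, 2, 4, 2, 4], [-179, 186, 0, 3, 53, -85]⟩) (.node 1 (.leaf ⟨5, 7, true, [2, 2, 2, 1, 3, 4, 3, 0, 2, 0, 2, 2, 0, 3, 3, 0, 3, 3, 0, 3], [4, 3, 0, 2, 2, 2, 1, 3, 0, 3, 3, 0, 2, 2, 2, 4, 3, 3, 0, 2, 2, 0], [-58, 39, 0, 3, 5, -12]⟩) (.leaf ⟨7, 5, true, [3, 4, 0, 3, 4, 2, 4, 0, 2, 4, 2, 0, 3, 3, 0, 3, 0, 3], [2, 0, 2, 2, 0, 2, 2, 0, 3, 3, 0, 3, 0, 2, 4, 2, 0, 2, 2, 2], [48, -43, 0, 0, 10, -16]⟩))))) (.node 5 (.node 2 (.node 1 (.leaf ⟨7, 7, true, [2, 2, 0, 4, 2, 1, 2, 0, 3, 4, 3, 4, 3, 4, 2, 2, 0, 2, 0, 2], [3, 0, 3, 4, 3, 3, 1, 2, 2, 0, 3, 4, 2, 2, 0, 3, 3,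 4, 2, 0, 3, 3, 4], [-69, 8, 0, 3, 26, -44]⟩) (.leaf ⟨7, 7, true, [4, 2, 0, 4, 3, 3, 4, 3, 1, 2, 0, 2, 2, 4, 2, 4, 3, 4, 0, 2], [3, 0, 3, 1, 3, 3, 4, 2, 4, 2, 4, 2, 0, 3, 0, 3, 4, 0, 3, 3], [-22, 29, 0, 4, 11, -23]⟩)) (.node 1 (.leaf ⟨7, 7, true, [3, 3, 0, 3, 1, 3, 4, 2, 2, 0, 2, 4, 2, 2, 4, 3, 3, 4, 3, 3, 0], [4, 2, 2, 2, 0, 2, 0, 3, 0, 3, 0, 2, 2, 2, 4, 2, 2], [-66, 19, 0, 3, 22, -38]⟩) (.node 1 (.leaf ⟨7, 7, true, [4, 0, 3, 4, 2, 2, 1, 2, 4, 2, 2, 2, 0, 3, 4, 3, 0, 2, 4, 2, 2, 4], [2, 0, 3, 3, 4, 3, 0, 2, 4, 2, 4, 2, 4, 2, 2, 0, 3, 4, 3, 4, 3], [95, -29, 0, -4, -29, 49]⟩) (.leaf ⟨3, 7, true, [3, 0, 2, 4, 2, 2, 1, 2, 4, 0, 2, 4, 2, 4, 2, 4, 2, 4, 0], [2, 4, 2, 0, 4, 2, 2, 2, 0,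 2, 2, 0, 3, 4, 3, 4, 3, 4, 3, 4, 0], [209, -156, 0, -10, -38, 72]⟩)))) (.node 2 (.node 1 (.leaf ⟨7, 3, true, [4, 3, 3, 1, 2, 0, 2, 2, 2, 4, 2, 2, 4, 0, 3, 3, 0, 2, 2, 0], [4, 0, 3, 4, 3, 4, 3, 4, 3, 4, 0, 3, 0, 3, 3, 4, 3, 0, 2], [-204, 144, 0, 12, 54, -100]⟩) (.leaf ⟨7, 7, true, [4, 3, 3, 0, 3, 4, 3, 3, 0, 3, 3, 4, 2, 2, 4, 0, 2, 2, 4, 3], [4, 2, 0, 3, 4, 3, 0, 3, 3, 4, 3, 4, 3, 4, 3, 3, 0, 3, 0, 2], [41, -13, 0, -2, -1, 4]⟩)) (.node 1 (.leaf ⟨7, 7, true, [0, 3, 4, 3, 1, 2, 0, 2, 2, 4, 3, 4, 0, 2, 2, 4, 0, 2, 2, 0, 2], [0, 3, 0, 2, 2, 2, 4, 2, 2, 1, 2, 4, 2, 0, 3, 4, 0, 3, 4, 2, 2, 4], [-176, 112, 0, 0, 13, -20]⟩) (.node 1 (.leaf ⟨6, 7, true, [2, 2, 4, 3, 3, 4, 3, 3, 4, 2, 1,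 2, 0, 2, 2, 0, 2, 2], [4, 3, 3, 0, 3, 3, 4, 3, 0, 3, 3, 4, 3, 4, 3, 0, 3], [128, -104, 0, -8, -62, 105]⟩) (.leaf ⟨7, 6, true, [4, 2, 2, 0, 2, 4, 2, 1, 3, 3, 0, 3, 3, 4, 3, 4, 0, 3, 3, 0, 3, 3], [2, 2, 2, 4, 2, 0, 3, 3, 0, 3, 0, 2, 4, 2, 2, 4, 3, 3], [-248, 151, 0, 16, 106, -184]⟩)))))))
noncomputable def dF111 : BT Fct := (.node 18 (.node 9 (.node 4 (.node 2 (.node 1 (.leaf ⟨5, 8, true, [3, 4, 1, 2, 4, 2, 0, 2, 2, 0, 2, 0, 3, 3, 0, 2, 2], [], []⟩) (.leaf ⟨8, 8, false, [2, 2, 1, 3, 0, 3, 0, 3, 3, 0, 3, 0, 3, 0, 2, 2], [], [30, -11, 0, -1, -1, 3]⟩)) (.node 1 (.leaf ⟨8, 8, false, [0, 2, 2, 4, 3, 3, 4, 2, 2, 1, 2, 2, 4, 3, 3, 4, 2, 2], [], [58, -54, 0, 2, 2, -6]⟩) (.leaf ⟨8, 7, true,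 [1, 2, 0, 2, 0, 3, 0, 3, 0, 2, 2, 0, 2, 0], [0, 2, 4, 3, 3, 0, 2, 4, 2, 2, 4, 3, 3, 0, 3, 3, 0, 2, 2, 4, 2, 4], [-99, 49, 0, -3, -12, 22]⟩))) (.node 2 (.node 1 (.leaf ⟨7, 8, true, [2, 4, 2, 4, 2, 4, 3, 4, 1, 2, 2, 4, 2, 4, 0, 3, 3, 4, 2], [1, 3, 0, 3, 3, 0, 2, 0, 2, 0, 3, 0, 3, 0], [222, -125, 0, -1, -10, 16]⟩) (.leaf ⟨8, 7, true, [2, 2, 2, 0, 2, 2, 2, 0, 2, 0, 3, 0], [4, 2, 0, 3, 3, 4, 3, 1, 2, 4, 2, 4, 2, 0, 2, 2, 2, 4, 3, 0, 3, 0], [-89, 41, 0, -2, -11, 19]⟩)) (.node 1 (.leaf ⟨8, 8, true, [2, 0, 3, 0, 3, 3, 0, 3, 0, 2, 2, 0, 2, 2, 2, 0, 2, 0, 3], [2, 2, 0, 3, 1, 2, 0, 2, 0, 3, 0, 3, 0, 2, 0, 2, 0, 2, 0, 3], [37, -33, 0, -1, 0, 1]⟩) (.node 1 (.leaf ⟨8, 7, true, [1, 3, 3, 0, 2,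 0, 2, 2, 0, 3, 0, 2, 2, 0, 2, 2, 4], [4, 3, 3, 4, 3, 0, 3, 4, 3, 4, 2, 2, 4, 2, 2, 4, 2, 2, 0, 2, 2, 2, 0], [-25, -16, 0, 1, -8, 10]⟩) (.leaf ⟨8, 8, false, [4, 3, 4, 2, 4, 3, 3, 0, 2, 0, 3, 3, 4, 3, 0, 3, 3, 4, 3, 0, 3, 0], [], [-205, 113, 0, 6, 40, -69]⟩))))) (.node 4 (.node 2 (.node 1 (.leaf ⟨8, 7, true, [0, 2, 2, 1, 3, 4, 0, 2, 2, 0, 2, 2, 4, 2, 0, 3, 3, 0, 3, 4], [0, 3, 3, 4, 0, 2, 4, 3, 3, 0, 3, 3, 0, 2, 2, 2, 4, 2, 4, 2, 2, 2], [-882, 501, 0, 24, 155, -269]⟩) (.leaf ⟨7, 8, true, [3, 3, 4, 0, 2, 4, 2, 4, 0, 3, 3, 4, 2, 0, 3, 3, 0, 3, 0], [4, 2, 0, 2, 2, 1, 3, 4, 3, 3, 0, 3, 3, 4, 0, 2, 0, 3, 3, 0], [911, -511, 0, -25, -162, 280]⟩)) (.node 1 (.leaf ⟨8, 6, true, [4, 2, 4, 0,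 2, 0, 3, 0, 3, 3, 4, 3, 4, 0, 3, 3, 0, 3, 3, 0, 2, 4, 2], [3, 3, 4, 0, 2, 0, 2, 2, 0, 3, 3, 4, 3, 3, 0, 3, 3, 4, 2, 0, 3, 3, 4], [683, -330, 0, -23, -151, 260]⟩) (.leaf ⟨6, 8, true, [1, 3, 4, 3, 0, 2, 2, 2, 0, 2, 2, 0, 3, 4, 2, 2, 0], [4, 3, 4, 0, 2, 2, 2, 1, 3, 3, 0, 3, 4, 3, 4, 3, 4, 3, 0, 2, 0, 2, 0], [-744, 383, 0, 21, 151, -258]⟩))) (.node 2 (.node 1 (.leaf ⟨8, 8, true, [0, 2, 2, 0, 2, 4, 2, 4, 0, 2, 0, 2, 4, 0, 3, 3, 4, 3, 3, 4, 2], [4, 2, 2, 0, 3, 3, 1, 3, 0, 2, 2, 0, 3, 0, 3, 3, 0, 3, 0, 2, 2, 0], [787, -429, 0, -24, -159, 274]⟩) (.leaf ⟨7, 9, true, [2, 4, 1], [], []⟩)) (.node 1 (.leaf ⟨9, 9, false, [2, 0, 3, 0, 3, 0, 2, 0, 2, 0, 3, 0, 3, 0, 2, 0], [], [270, -207, 0, -4,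 4]⟩) (.node 1 (.leaf ⟨9, 9, false, [3, 0, 3, 0, 2, 2, 0, 3, 0], [], [265, -146, 0, -14, -74, 132]⟩) (.leaf ⟨9, 9, false, [4, 2, 4, 3, 4, 3, 0, 2, 4, 2, 0, 3, 4, 3, 4, 2, 0], [], [-48, 31, 0, 3, 15, -27]⟩)))))) (.node 9 (.node 4 (.node 2 (.node 1 (.leaf ⟨9, 7, true, [2, 2, 0, 2, 0, 3, 0, 2, 2, 0, 2, 2, 0, 3, 3, 0, 3, 3, 0, 2, 0], [2, 2, 4, 3, 3, 1, 2, 4, 2, 4, 2, 2, 4, 2, 0, 3, 0, 3, 3, 4, 0, 3, 0], [45, -38, -1, 2, 1, -3]⟩) (.leaf ⟨9, 9, false, [2, 4, 0, 3, 4, 3, 3, 0, 2, 2, 4, 3, 3, 4, 3, 4, 2, 2, 4, 3], [], [-40, 10, 1, 2, 21, -37]⟩)) (.node 1 (.leaf ⟨9, 7, true, [3, 0, 2, 0, 2, 2, 0, 3, 0, 2, 2, 2, 0, 2, 0, 2, 0], [2, 2, 4, 2, 1, 2, 4, 0, 3, 3, 4, 3, 4, 3, 0, 2, 2, 0, 2, 4,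 2, 0], [3, -43, -1, 1, 2, -3]⟩) (.leaf ⟨9, 9, false, [4, 3, 4, 2, 4, 2, 4, 3, 4, 0, 3, 4, 2, 2, 0], [], [6, 15, 1, 3, 20, -37]⟩))) (.node 2 (.node 1 (.leaf ⟨9, 7, true, [4, 2, 4, 2, 2, 4, 3, 4, 3, 4, 3, 3, 1, 3, 0, 2, 0, 2, 0, 2, 2], [4, 3, 0, 2, 0, 2, 4, 2, 0, 3, 0, 3, 4, 3, 4, 3, 3, 4, 0, 3], [-305, 255, 0, 4, -12, 11]⟩) (.leaf ⟨9, 9, false, [2, 0, 2, 2, 1, 2, 2, 4, 2, 4, 3, 4, 3, 3, 0, 3, 3, 0, 3, 0], [], [427, -330, 0, -8, -10, 27]⟩)) (.node 1 (.leaf ⟨9, 9, true, [1, 3, 3, 0, 2, 0, 2, 2, 0, 2, 0, 3, 3, 4, 0], [3, 1, 3, 0, 2, 0, 2, 4, 2, 2, 0, 2, 0, 2, 2, 0, 3, 3], [174, -103, -1, -7, -43, 77]⟩) (.node 1 (.leaf ⟨1, 1, false, [], [], [6]⟩) (.leaf ⟨1, 1, false, [], [], [55, -40]⟩)))))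 (.node 5 (.node 2 (.node 1 (.leaf ⟨1, 1, false, [], [], [50, -40]⟩) (.leaf ⟨1, 1, false, [], [], [72, -48]⟩)) (.node 1 (.leaf ⟨2, 2, false, [], [], [4, -12, 0, -2, -2, 6]⟩) (.node 1 (.leaf ⟨2, 2, false, [], [], [36, -66]⟩) (.leaf ⟨2, 2, false, [], [], [-12, 0, 0, 2, 14, -24]⟩)))) (.node 2 (.node 1 (.leaf ⟨2, 2, false, [], [], [191, -118, 0, -8, -50, 87]⟩) (.leaf ⟨2, 2, false, [], [], [-17, 41, 0, 0, 12, -18]⟩)) (.node 1 (.leaf ⟨3, 3, false, [], [], [50, -16, 0, 0, -4, 6]⟩) (.node 1 (.leaf ⟨9, 9, false, [], [], [-80, 20, 2, 4, 42, -74]⟩) (.leaf ⟨9, 9, false, [], [], [370, -218, 1, -3, 8, -10]⟩)))))))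
noncomputable def dd : Dce := ⟨11, m_ts, [24, 12, 6, 2, 0], [0, 0], [1, 1], [0, 0, 0, 0, 0, -1], [[3], [1, 2, 0]], [[3], [1, 2, 0]], [[1], [0, 1]], [[[], [], [], [], []], [[0], [], [1]], [[4], [4], [4]], [[0, 0], [1, 1]]], [[0, 0, 1], [0, 0, 0, 1], [0, 0, 0, 0, 1], [0, 0, 0, 0, 0, 1]], (.node 74 (.node 37 dF0 dF37) (.node 37 dF74 dF111)), [0, 3, 10, 17, 25, 39, 57, 72, 111, 125], []⟩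
theorem dd_c0 : dd.checks [⟨1, [], 0, 0, []⟩, ⟨1, [], 0, 0, []⟩, ⟨1, [], 0, 0, []⟩, ⟨0, [], 0, 0, []⟩, ⟨3, [6, 2, 5, 5, 7], 3, 0, [[], [1]]⟩, ⟨2, [6, 0, 7], 1, 1, [[], [0, 0, 2, 1, 1, 2, 0, 0, 0, 3, 0, 0], [2, 1, 1, 3, 3, 0, 3, 3, 1, 2, 1, 1]]⟩, ⟨2, [6, 1, 1, 7], 1, 0, [[], [2, 2, 1, 2, 2, 1, 3, 3, 0, 2, 2], [2, 2, 1, 2, 2, 1, 3, 3, 0, 2, 2]]⟩, ⟨2, [9, 9, 6, 3, 3, 0, 3, 3, 5, 1, 7], 2, 1, [[], [1, 2, 2, 1, 3, 1, 1, 2, 1], [2, 1, 1, 2, 1, 3, 1, 2, 2, 1, 1]]⟩, ⟨2, [8, 8, 6, 3, 3, 1, 2, 1, 3, 3, 3, 5, 7], 2, 1, [[], [0, 2, 0, 0, 3, 3, 0, 3, 3, 1, 2, 0, 0], [1, 1, 3, 0, 0, 2, 2, 1, 1, 3]]⟩, ⟨3, [17, 14], 3, 0, [[], [0, 3, 3, 0, 2, 0, 0, 2, 1, 1, 3, 1]]⟩, ⟨0, [], 0, 0, []⟩, ⟨3, [20,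 9, 19, 19, 8, 9, 18, 9, 21], 3, 0, [[], [3, 0, 2, 2, 2, 0, 0, 2]]⟩, ⟨3, [20, 9, 18, 18, 19, 21], 3, 0, [[], [2, 0, 0, 2, 2, 2, 0, 3]]⟩, ⟨2, [20, 8, 8, 18, 8, 15], 1, 2, [[], [1, 2, 1, 3, 3, 0, 3, 3, 0, 2, 1, 1], [0, 0, 3, 3, 0, 2, 1, 2, 0, 3, 1, 2, 2]]⟩, ⟨3, [27, 21], 3, 0, [[], [0, 2, 1, 2, 0, 3, 1, 2, 1, 1, 2, 0]]⟩, ⟨2, [20, 13], 2, 1, [[], [0, 0, 0, 3, 1, 2, 1, 1, 3, 3], [1, 3, 3, 1, 1, 2, 1, 1, 2, 0, 0, 3, 3]]⟩, ⟨3, [31, 21], 3, 0, [[], [2, 2, 1, 1, 3, 0, 0, 3, 0, 0, 2, 2, 0]]⟩, ⟨0, [], 0, 0, []⟩, ⟨3, [34, 19, 8, 35], 3, 0, [[], [2, 1, 2, 2, 2, 1, 1, 3]]⟩, ⟨3, [34, 8, 18, 8, 35], 3, 0, [[], [3, 1, 1, 2, 2, 2, 1, 2]]⟩, ⟨2, [34, 21, 29, 20, 35], 0, 1, [[], [2, 2, 1, 2, 2, 0,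 0, 3, 1, 2, 1], [2, 2, 1, 2, 2, 0, 0, 3, 1, 2, 1], [0, 2, 2, 0, 0, 3, 1, 2, 1, 1, 3, 0], [0, 2, 2, 0, 0, 3, 1, 2, 1, 1, 3, 0]]⟩, ⟨2, [34, 8, 8, 18, 8, 15], 1, 1, [[], [3, 3, 0, 0, 3, 1, 1, 2, 0, 3, 0, 0, 3], [3, 1, 1, 2, 2, 1, 2, 0, 3, 0, 0, 3, 3, 1]]⟩, ⟨2, [34, 21], 1, 0, [[], [2, 1, 2, 0, 3, 3, 0, 3, 3, 0, 2], [2, 1, 2, 0, 3, 3, 0, 3, 3, 0, 2]]⟩, ⟨2, [43, 10], 2, 1, [[], [3, 1, 1, 2, 0, 3, 0, 0, 3, 3, 1, 2, 1], [1, 3, 3, 0, 2, 2, 0, 3, 3, 0, 0, 3]]⟩, ⟨3, [47, 35], 3, 0, [[], [2, 1, 2, 0, 3, 3, 0, 3, 3, 0, 0]]⟩, ⟨0, [], 0, 0, []⟩, ⟨3, [50, 18, 9, 8, 9, 18, 9, 51], 3, 0, [[], [3, 3, 0, 0, 2, 0, 0, 2, 2, 2]]⟩, ⟨3, [50, 19, 9, 9, 19, 18, 19, 9, 9, 51], 3, 0, [[], [0, 2, 2, 2, 1,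 1, 3, 1, 1, 2, 1]]⟩, ⟨2, [50, 9, 19, 19, 9, 19, 9, 51], 1, 0, [[], [3, 3, 1, 1, 2, 0, 3, 1, 2, 2, 0, 3, 3, 0], [0, 2, 0, 0, 0, 2, 2, 1, 2, 1, 3, 0]]⟩, ⟨2, [52, 54, 50, 19, 19, 9, 15], 2, 1, [[], [3, 3, 1, 1, 2, 2, 1, 3, 0, 3, 3], [3, 1, 2, 2, 1, 3, 0, 2, 0, 0, 3]]⟩, ⟨3, [59, 19, 9, 18, 9, 19, 51], 3, 0, [[], [2, 0, 0, 2, 1, 2, 1, 3, 1, 1, 3, 1, 1]]⟩, ⟨2, [60, 56, 60, 52, 54, 61, 53, 60, 50], 2, 2, [[], [1, 3, 3, 1, 2, 2, 2, 0, 0, 2, 2, 0], [1, 2, 0, 3, 1, 2, 2, 0, 3, 0, 0, 2]]⟩, ⟨3, [63, 18, 9, 9, 18, 9, 35], 3, 0, [[], [3, 1, 1, 3, 0, 0, 0, 2, 2, 1, 2, 1]]⟩, ⟨3, [51, 64, 48], 3, 0, [[], []]⟩, ⟨3, [65, 56, 64, 48], 3, 0, [[], []]⟩, ⟨3, [65, 50], 3, 0, [[], []]⟩, ⟨2, [49, 49, 39,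 70, 18, 9, 18, 9, 42], 2, 1, [[], [3, 3, 0, 2, 1, 2, 0, 3, 3, 0, 3, 1, 1], [3, 1, 2, 0, 0, 2, 1, 1, 2, 1, 3]]⟩, ⟨2, [29, 44, 36, 67], 2, 0, [[], [0, 2, 1, 1, 2, 1, 1, 2, 2], [3, 0, 0, 2, 0, 3, 0, 2, 1, 2, 0, 3, 0]]⟩, ⟨3, [75, 8, 21], 3, 0, [[], [0, 0, 3, 3, 0, 2, 2, 1, 3, 0, 2, 0]]⟩, ⟨0, [], 0, 0, []⟩, ⟨3, [78, 8, 19, 19, 9, 18, 18, 18, 9, 19, 79], 3, 0, [[], [2, 0, 3, 1, 2, 2, 2, 1, 1, 2, 1, 1, 2]]⟩, ⟨3, [78, 8, 19, 8, 19, 79], 3, 0, [[], [0, 0, 0, 2, 1, 3, 1, 2, 1, 1]]⟩, ⟨2, [78, 9, 19, 19, 9, 19, 9, 71], 1, 1, [[], [0, 0, 2, 1, 3, 0, 3, 0, 2, 1, 3, 1], [1, 1, 3, 1, 1, 2, 0, 3, 0, 0, 2, 2, 2]]⟩, ⟨3, [85, 48], 3, 0, [[], []]⟩, ⟨3, [86, 49, 48, 37, 39, 39, 36, 87], 3, 0, [[], [2,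 0, 0, 2, 0, 3, 1, 2, 0]]⟩, ⟨2, [78, 71], 1, 2, [[], [0, 0, 3, 0, 0, 3, 3, 0, 2, 2, 0], [0, 3, 1, 2, 2, 2, 1, 2, 1, 1, 2]]⟩, ⟨3, [91, 48], 3, 0, [[], []]⟩, ⟨2, [78, 9, 19, 19, 9, 19, 9, 79], 1, 0, [[], [2, 2, 1, 3, 0, 0, 3, 1, 1, 3, 1, 1, 3, 0], [0, 3, 3, 0, 2, 1, 1, 2, 0, 0, 0, 3, 0, 2]]⟩, ⟨2, [78, 21], 2, 1, [[], [2, 1, 3, 0, 0, 3, 0, 0, 0, 2, 1, 3, 1], [2, 1, 3, 0, 0, 3, 0, 0, 0, 2, 2, 0]]⟩, ⟨3, [97, 22, 22], 3, 0, [[], []]⟩, ⟨3, [98, 23, 77, 33, 32, 24, 76, 28, 99], 3, 0, [[], [0, 3, 3, 1, 2, 2, 0, 0, 2, 1, 1, 3]]⟩, ⟨2, [80, 78, 9, 19, 9, 9, 35], 2, 1, [[], [1, 3, 0, 2, 1, 2, 1, 1], [2, 1, 2, 2, 0, 3, 3, 0, 2, 1, 3, 1, 1]]⟩, ⟨3, [103, 39, 36, 36], 3, 0, [[], []]⟩, ⟨2, [100,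 78, 9, 18, 9, 9, 15], 2, 1, [[], [1, 3, 1, 2, 1, 1, 3, 0, 2, 1, 1], [2, 2, 2, 1, 1, 3, 1, 2, 0, 0, 0, 2]]⟩, ⟨3, [107, 8, 18, 79], 3, 0, [[], [2, 2, 2, 1, 2, 0, 3, 0, 2, 2, 1, 3, 0, 2]]⟩, ⟨2, [82, 86, 84], 2, 2, [[], [2, 0, 3, 3, 1, 2, 2, 0, 0, 3, 1, 1], [2, 2, 0, 0, 2, 0, 3, 0, 2, 1, 2, 2, 1]]⟩, ⟨2, [100, 89, 108, 98, 22, 28, 22, 77, 96], 2, 2, [[], [3, 3, 0, 2, 1, 3, 1, 2, 2, 1, 2, 2, 1], [1, 1, 2, 2, 1, 2, 2, 2, 0, 3, 3, 0]]⟩, ⟨0, [], 0, 0, []⟩, ⟨3, [114, 19, 19, 8, 8, 19, 9, 18, 18, 9, 9, 115], 3, 0, [[], [0, 2, 1, 3, 0, 0, 2, 1, 3, 0, 3, 1, 1]]⟩, ⟨2, [114, 19, 9, 19, 19, 115], 1, 1, [[], [1, 3, 3, 0, 2, 2, 1, 3, 0, 2, 1, 1, 2], [1, 1, 2, 0, 0, 2, 1, 1, 2, 2, 2, 1]]⟩, ⟨2, [114,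 18, 9, 9, 18, 8, 8, 115], 1, 0, [[], [1, 1, 3, 0, 3, 3, 0, 2, 2, 1, 3, 0], [2, 1, 3, 1, 2, 0, 3, 3, 0, 2, 2, 1]]⟩, ⟨3, [121, 121], 3, 0, [[], [1, 3, 0, 3, 3, 1, 1, 3, 3, 0]]⟩, ⟨2, [116, 114, 18, 18, 8, 18, 79], 2, 1, [[], [2, 2, 0, 3, 0, 0, 0, 2, 2, 1, 2], [1, 3, 3, 1, 2, 2, 1, 3, 1, 1, 2, 1]]⟩, ⟨3, [125, 81, 82, 88], 3, 0, [[], []]⟩, ⟨3, [126, 101, 83, 100, 81, 88, 83, 89, 127], 3, 0, [[], [1, 2, 2, 1, 3, 0, 3, 3, 1, 1, 3, 1]]⟩, ⟨2, [116, 122, 129, 114, 19, 9, 19, 19, 8, 18, 71], 2, 1, [[], [2, 0, 3, 0, 0, 3, 1, 1, 3, 0, 3], [0, 3, 0, 2, 1, 1, 3, 0, 2, 1, 1]]⟩, ⟨3, [131, 37, 49, 39], 3, 0, [[], []]⟩, ⟨2, [81, 108, 100, 112, 89, 83, 80, 124], 1, 2, [[], [2, 0, 0, 3, 1, 2, 0, 0],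 [0, 2, 0, 3, 1, 2, 2, 1, 3, 1, 1, 2, 0]]⟩, ⟨2, [134, 124], 1, 1, [[], [1, 2, 0, 3, 3, 0, 2, 2, 1, 2, 0, 0, 0], [2, 1, 3, 0, 0, 2, 0, 3, 0, 2, 2, 2]]⟩, ⟨2, [128, 128, 134, 109, 80, 124], 2, 2, [[], [2, 2, 0, 3, 1, 2, 1, 1, 2, 2, 2, 0], [2, 0, 0, 2, 0, 0, 0]]⟩, ⟨3, [134, 83, 88, 112, 80, 108, 83, 124], 2, 0, [[0, 2, 2, 1, 1, 2, 2, 1, 1, 2], [2, 0, 0, 0, 3, 1, 1, 3, 1, 2, 0, 0], [0, 3, 3, 0, 0, 3, 0, 2, 2, 1, 3]]⟩, ⟨2, [132, 48, 39, 130], 1, 0, [[], [1, 2, 2, 1, 3, 0, 2, 1, 3, 0, 0, 2, 0], [1, 3, 3, 0, 3, 3, 0, 2, 1, 2, 2, 0]]⟩, ⟨0, [], 0, 0, []⟩, ⟨3, [144, 76, 22, 76, 32, 29, 29, 76, 23, 145], 3, 0, [[], [2, 1, 3, 3, 1]]⟩, ⟨3, [144, 25, 25, 24, 25, 22, 22, 145], 3, 0, [[], [0, 2,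 1, 1, 2, 2, 2, 0, 0, 3, 1]]⟩, ⟨3, [144, 29, 23, 23, 76, 23, 22, 76, 22, 22, 145], 3, 0, [[], [0, 3, 1, 2, 1, 3, 1, 2, 1, 1]]⟩, ⟨2, [144, 25, 29, 23, 23, 99], 1, 1, [[], [3, 0, 0, 2, 1, 1, 2, 1, 1, 3, 0], [3, 3, 0, 3, 1, 2, 0, 0, 2, 0, 0, 0, 2]]⟩, ⟨2, [144, 99], 1, 2, [[], [2, 0, 0, 3, 0, 0, 3, 0, 2, 0, 0], [2, 0, 0, 2, 0, 0, 0, 3, 1, 2, 0]]⟩, ⟨2, [144, 25, 29, 23, 23, 145], 1, 0, [[], [1, 3, 0, 3, 3, 1, 1, 2, 1, 3, 1, 2, 0], [1, 3, 0, 3, 3, 1, 1, 2, 1, 3, 1, 2, 0]]⟩, ⟨2, [147, 148, 146, 148, 144, 28, 76, 23, 23, 99], 2, 1, [[], [3, 0, 3, 3, 0, 2, 1, 1, 3, 0, 0, 3], [0, 3, 1, 1, 2, 1, 3, 0, 2, 1, 2, 0, 3, 0]]⟩, ⟨3, [159, 109, 100, 109], 3, 0, [[], []]⟩, ⟨2, [146, 148, 150, 144,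 76, 25, 23, 145], 2, 1, [[], [1, 2, 0, 3, 0, 2, 1, 2, 0, 3, 1, 2, 1], [2, 2, 0, 3, 3, 1, 2, 2, 1, 2, 0, 3]]⟩, ⟨2, [144, 44], 2, 1, [[], [3, 0, 0, 0, 2, 2, 1, 3, 3, 1, 1], [2, 1, 2, 2, 2, 0, 0, 0, 3, 0]]⟩, ⟨2, [144, 33, 25, 29, 145], 2, 1, [[], [3, 0, 0, 3, 1, 2, 0, 3, 3, 0, 0, 2, 1, 2], [2, 1, 3, 0, 2, 1, 3, 0, 0]]⟩, ⟨3, [153, 82, 109, 98, 22, 22, 28, 24, 32, 145], 2, 0, [[0, 0, 3, 1, 1, 2, 0, 3, 1, 1, 2, 2], [3, 3, 0, 2, 1, 3, 3, 0, 3, 1, 1, 2, 1], [1, 3, 0, 2, 1, 2, 2, 1, 1, 2, 0, 0]]⟩, ⟨2, [146, 169, 146, 148, 160, 88, 101, 152], 2, 2, [[], [3, 3, 1, 2, 2, 0, 3, 1, 2, 2, 0], [2, 1, 2, 0, 0, 0, 3, 1, 2, 2]]⟩, ⟨2, [38, 90, 152], 2, 2, [[], [1, 3, 3, 1, 2, 2, 2, 0, 0, 2], [1, 3,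 0, 2, 0, 0, 0, 3, 3, 0, 0]]⟩, ⟨2, [148, 146, 155, 109, 152], 2, 2, [[], [0, 3, 0, 0, 0, 2, 0, 0, 2, 0, 3, 0], [0, 0, 2, 2, 1, 3, 0, 2, 0, 3, 0, 2, 2, 0]]⟩, ⟨3, [175, 149, 147, 149], 3, 0, [[], []]⟩, ⟨2, [117, 140, 134, 109, 152], 2, 2, [[], [3, 1, 2, 1, 3, 3, 0, 2, 1, 1], [1, 2, 0, 0, 3, 0, 2, 2, 1, 3, 3]]⟩, ⟨3, [179, 149, 147], 3, 0, [[], []]⟩, ⟨2, [117, 140, 126, 100, 108, 88, 154], 2, 2, [[], [3, 1, 2, 2, 1, 1, 3, 0, 2, 0, 0], [1, 2, 1, 3, 3, 1, 1, 2, 0, 0, 3, 3]]⟩, ⟨3, [183, 151, 147], 3, 0, [[], []]⟩, ⟨2, [80, 80, 94, 100, 154], 2, 2, [[], [1, 1, 2, 0, 0, 3, 0, 2, 2, 1, 3], [0, 3, 1, 2, 1, 1, 2, 2, 2, 1, 2]]⟩, ⟨3, [187, 151], 3, 0, [[], []]⟩, ⟨2, [116, 141, 116, 140, 126,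 82, 100, 158], 2, 2, [[], [1, 3, 3, 0, 3, 3, 0, 2, 1, 3, 0, 0], [0, 3, 1, 1, 3, 0, 0, 3, 3, 1, 2, 0]]⟩, ⟨3, [191, 151], 3, 0, [[], []]⟩, ⟨2, [116, 140, 140, 117, 134, 80, 88, 101, 158], 2, 2, [[], [2, 0, 3, 3, 0, 3, 1, 2, 1, 3, 1, 2, 0], [3, 3, 0, 3, 3, 1, 1, 2, 1, 1, 2, 0]]⟩, ⟨3, [195, 151, 147, 149], 3, 0, [[], []]⟩, ⟨2, [81, 89, 100, 112, 80, 88, 158], 2, 2, [[], [3, 1, 2, 0, 3, 3, 1, 2, 2, 1, 2, 0, 0, 0], [1, 3, 1, 2, 0, 3, 3, 1, 2, 1, 3, 0, 0]]⟩, ⟨3, [199, 149, 151], 3, 0, [[], []]⟩, ⟨2, [146, 168, 150, 198, 89, 158], 2, 2, [[], [3, 3, 0, 0, 0, 2, 2, 1, 2, 0, 3], [3, 1, 1, 2, 1, 1, 3, 0, 3, 0, 2, 0]]⟩, ⟨3, [203, 151, 149, 147], 3, 0, [[], []]⟩, ⟨2, [146, 148, 160, 88, 100,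 83, 108, 158], 2, 2, [[], [2, 2, 2, 0, 3, 1, 2, 0, 0, 0, 2], [1, 2, 2, 2, 0, 3, 1, 2, 0]]⟩, ⟨3, [207, 151, 146], 3, 0, [[], []]⟩, ⟨2, [36, 49, 36, 36, 49, 164, 168, 162], 2, 2, [[], [0, 3, 1, 2, 2, 0, 0, 3, 0, 0, 3, 3, 0, 0, 2], [3, 1, 2, 0, 0, 3, 0, 2, 0, 0, 2, 2]]⟩, ⟨3, [211, 169, 151], 3, 0, [[], []]⟩, ⟨2, [172, 164], 1, 2, [[], [0, 3, 0, 2, 1, 1, 2, 0, 3, 0, 0, 3, 0], [1, 2, 0, 3, 1, 2, 2, 0, 3, 3, 1, 1]]⟩, ⟨2, [170, 146, 168, 146, 169, 207], 2, 1, [[], [2, 0, 3, 3, 0, 3, 3, 0, 0, 0, 3], [2, 0, 3, 3, 0, 3, 1, 2, 0, 0, 2, 0]]⟩, ⟨2, [140, 140, 192, 150, 148, 170], 2, 2, [[], [2, 1, 1, 2, 0, 0, 3, 1, 2, 0, 3, 3, 1, 1], [2, 2, 1, 1, 2, 0, 0, 2, 0, 0, 2]]⟩, ⟨3, [219, 147, 149, 147],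 3, 0, [[], []]⟩, ⟨0, [], 0, 0, []⟩, ⟨3, [222, 88, 101, 89, 83, 81, 83, 81, 88, 223], 3, 0, [[], [0, 0, 2, 1, 2, 2, 1, 2, 0, 0]]⟩, ⟨3, [222, 100, 89, 100, 89, 223], 3, 0, [[], [0, 2, 2, 2, 1, 2, 1, 3, 0, 0, 2, 0]]⟩, ⟨2, [222, 89, 100, 88, 161], 1, 1, [[], [3, 3, 1, 1, 3, 1, 2, 1, 3, 0, 3, 0], [0, 3, 3, 1, 2, 0, 3]]⟩, ⟨3, [229, 146, 149], 3, 0, [[], []]⟩, ⟨2, [222, 82, 89, 83, 161], 1, 2, [[], [0, 3, 1, 1, 2, 1, 3, 3, 0, 3, 3, 1], [1, 3, 1, 2, 2, 0, 0, 0]]⟩, ⟨2, [222, 88, 82, 223], 1, 0, [[], [2, 1, 3, 1, 1, 3, 0, 2, 1, 2, 0], [1, 3, 1, 2, 2, 0, 0, 2, 1, 1, 2, 0]]⟩, ⟨2, [222, 101, 109, 88, 161], 2, 1, [[], [1, 3, 1, 1, 2, 0, 0, 3, 3, 0, 3, 0], [0, 3, 1, 2, 1, 3, 3, 0, 3, 0]]⟩, ⟨3,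 [237, 168, 147, 149, 147, 149, 232], 3, 0, [[], [1, 1, 2, 1, 1, 3, 1, 2, 1, 3, 0, 2, 1]]⟩, ⟨2, [239, 239, 226, 239, 239, 222, 101, 81, 187], 2, 1, [[], [1, 3, 0, 3, 1, 2, 1, 1, 3, 0, 2], [0, 3, 3, 0, 0, 3, 1, 1, 2]]⟩, ⟨3, [241, 151, 146], 3, 0, [[], []]⟩, ⟨2, [238, 238, 224, 238, 226, 238, 222, 101, 81, 135], 2, 1, [[], [3, 0, 3, 1, 1, 2, 0, 3, 1, 2, 0, 0], [3, 3, 1, 2, 2, 0, 3, 3, 1, 1, 3, 0]]⟩, ⟨3, [245, 123, 116, 116], 3, 0, [[], []]⟩, ⟨2, [226, 238, 238, 238, 238, 224, 222, 80, 109, 80, 82, 223], 2, 2, [[], [1, 1, 3, 3, 0, 2, 2, 0, 3, 3, 0, 2, 2], [0, 3, 3, 0, 3, 3, 0, 0, 0]]⟩, ⟨0, [], 0, 0, []⟩, ⟨3, [250, 169, 169, 147, 169, 169, 146, 149, 251], 3, 0, [[], [3, 1, 2, 0, 3,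 1, 2, 0]]⟩, ⟨3, [250, 146, 146, 150, 150, 169, 168, 251], 3, 0, [[], [0, 3, 1, 1, 3]]⟩, ⟨3, [250, 151, 148, 149, 251], 3, 0, [[], [1, 1, 2, 0, 3, 0, 2, 0, 3, 0, 0, 0]]⟩, ⟨2, [250, 177, 167, 147, 149, 175], 0, 1, [[], [2, 0, 3, 3, 0, 2, 1, 3, 0, 2, 1, 2, 0, 0], [2, 1, 1, 3, 1, 2, 1, 1, 3, 0, 0, 2], [3, 3, 1, 2, 2, 1, 2, 2, 0, 0, 3], [3, 1, 1, 2, 2, 0, 0, 3, 0, 2, 0, 0, 0]]⟩, ⟨3, [259, 149, 147, 149, 251], 3, 0, [[], [1, 1, 3, 0, 0, 2, 1, 2, 2, 0, 0, 3, 0]]⟩, ⟨2, [260, 250, 175], 1, 1, [[], [1, 2, 1, 1, 2, 2, 2, 0, 3, 3, 0], [0, 2, 0, 0, 3, 0, 0, 0, 3, 3, 0, 3]]⟩, ⟨3, [263, 149, 147, 149, 251], 3, 0, [[], [2, 2, 0, 0, 3, 0, 2, 0, 3, 0, 0]]⟩, ⟨2, [252, 250, 149, 146, 209], 2, 1, [[],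 [0, 0, 0, 2, 1, 1, 2, 2, 2], [0, 3, 0, 0, 0, 3, 3, 0, 3, 3, 0]]⟩, ⟨3, [267, 146, 149, 251], 3, 0, [[], [2, 1, 1, 2, 2, 1, 1, 3, 0, 0, 3, 0]]⟩, ⟨2, [260, 250, 147, 168, 251], 2, 1, [[], [0, 3, 1, 2, 2, 2, 1, 2, 2, 0, 0], [0, 2, 2, 2, 1, 2, 2, 0, 3, 0, 2, 0]]⟩, ⟨3, [9, 9, 9, 9, 9, 9], 4, 0, []⟩, ⟨3, [18, 18, 18, 18, 18], 4, 0, []⟩, ⟨3, [8, 18, 8, 18, 8, 18, 8, 18, 8, 18], 4, 0, []⟩, ⟨3, [18, 9, 18, 9, 18, 9, 18, 9, 18, 9, 18, 9], 4, 0, []⟩, ⟨3, [33, 33], 4, 0, []⟩, ⟨3, [23, 23, 23, 23, 23, 23], 4, 0, []⟩, ⟨3, [24, 77, 23, 24, 77, 23], 4, 0, []⟩, ⟨3, [76, 76, 76, 33, 76, 76, 76, 76], 4, 0, []⟩, ⟨3, [24, 29, 24, 77, 22, 22, 29, 77, 24], 4, 0, []⟩, ⟨3, [37, 49, 37, 37, 49, 37], 4, 0,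 []⟩, ⟨3, [260, 253, 260, 252], 4, 0, []⟩, ⟨3, [257, 264, 252, 261, 264], 4, 0, []⟩] 0 148 = true := by decide +kernel
theorem dd_n0 : dd.nodeB m_ns 148 0 c_l0.O [0, 1, 2, 3, 5, 6, 7, 8, 9] 0 [0, 2, 4] [6] [2, 0, 2, 1, 0, 1, 2, 1, 0, 2, 1, 0, 1, 2, 1, 0, 1, 0, 1, 2] = true := by decide +kernel
theorem dd_n1 : dd.nodeB m_ns 148 0 c_l0.O [0, 1, 2, 3, 5, 6, 7, 8, 9] 1 [8, 18] [7, 10, 11, 12, 14, 20, 34, 43, 70, 78, 114] [0, 0, 0, 0, 0, 1, 0, 0, 0, 0, 0, 1, 0, 0, 0, 1, 0, 0, 0, 0, 0, 1, 0, 0] = true := by decide +kernel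
theorem dd_n2 : dd.nodeB m_ns 148 0 c_l0.O [0, 1, 2, 3, 5, 6, 7, 8, 9] 2 [22, 24, 28, 32, 76] [21, 45, 98, 144] [3, 2, 4, 1, 0, 1, 0, 2, 1, 0, 1, 0, 1, 0] = true := by decide +kernel
theorem dd_n3 : dd.nodeB m_ns 148 0 c_l0.O [0, 1, 2, 3, 5, 6, 7, 8, 9] 3 [36, 38, 48] [35, 40, 42, 44, 66, 68, 72, 86, 92, 104, 132, 165, 172, 210] [2, 1, 0, 1, 0, 1, 0, 1, 2, 0, 1, 0, 1, 0, 1] = true := by decide +kernel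
theorem dd_n5 : dd.nodeB m_ns 148 0 c_l0.O [0, 1, 2, 3, 5, 6, 7, 8, 9] 5 [80, 82, 88, 100, 108] [79, 84, 90, 94, 96, 102, 110, 112, 126, 134, 153, 155, 160, 186, 198, 222] [4, 3, 1, 2, 3, 1, 0, 2, 1, 2, 1, 1] = true := by decide +kernel
theorem dd_n6 : dd.nodeB m_ns 148 0 c_l0.O [0, 1, 2, 3, 5, 6, 7, 8, 9] 6 [116, 122, 128, 140] [115, 118, 119, 120, 124, 130, 135, 136, 138, 142, 178, 182, 190, 194, 218, 246] [3, 0, 2, 3, 0, 2, 1, 3, 0, 2, 0] = true := by decide +kernel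
theorem dd_n7 : dd.nodeB m_ns 148 0 c_l0.O [0, 1, 2, 3, 5, 6, 7, 8, 9] 7 [146, 148, 150, 168] [145, 152, 154, 156, 158, 162, 164, 166, 170, 173, 174, 176, 180, 184, 188, 192, 196, 200, 202, 204, 206, 208, 212, 214, 216, 220, 230, 233, 242, 250] [0, 3, 0, 2, 1, 0, 0, 1, 0, 0, 3] = true := by decide +kernel
theorem dd_n8 : dd.nodeB m_ns 148 0 c_l0.O [0, 1, 2, 3, 5, 6, 7, 8, 9] 8 [224, 226, 238] [223, 228, 232, 234, 240, 244, 248] [2, 0, 2, 1, 2, 0, 2, 2, 0, 2, 2, 2, 0, 2, 2, 2, 2, 2, 2, 2] = true := by decide +kernel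
theorem dd_n9 : dd.nodeB m_ns 148 0 c_l0.O [0, 1, 2, 3, 5, 6, 7, 8, 9] 9 [252, 254, 256, 260, 264, 268] [251, 270] [4, 5, 1, 4, 1, 3, 1, 5, 1, 4, 1, 5, 1, 0, 1, 4, 5, 1] = true := by decide +kernel
theorem dd_up {K Γ A : Type*} [Group K] [Group Γ] [CommGroup A] {X : Ctx K Γ A} (hy : dd.Hyp X m_ns) : dd.Upto X 148 :=
  ((Dce.Upto.zero).step hy dd_c0)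
theorem dd_all {K Γ A : Type*} [Group K] [Group Γ] [CommGroup A] {X : Ctx K Γ A} (hy : dd.Hyp X m_ns) (hA : ∀ a, X.ι a ∈ X.H)
    (hL : ∀ h, X.φ h 0 = 0 → h ∈ gw X.γ dd.LW) (hO : ∀ h, (c_l0.O).testBit (X.φ h 0) = true) :
    ∀ d ∈ [0, 1, 2, 3, 5, 6, 7, 8, 9], dd.Closed X [0, 1, 2, 3, 5, 6, 7, 8, 9] d := by
  simp only [List.forall_mem_cons, List.not_mem_nil, IsEmpty.forall_iff, implies_true, and_true]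
  exact ⟨Dce.nodeB_sound hy (dd_up hy) hA (by decide +kernel) hL hO dd_n0,
    Dce.nodeB_sound hy (dd_up hy) hA (by decide +kernel) hL hO dd_n1,
    Dce.nodeB_sound hy (dd_up hy) hA (by decide +kernel) hL hO dd_n2,
    Dce.nodeB_sound hy (dd_up hy) hA (by decide +kernel) hL hO dd_n3,
    Dce.nodeB_sound hy (dd_up hy) hA (by decide +kernel) hL hO dd_n5,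
    Dce.nodeB_sound hy (dd_up hy) hA (by decide +kernel) hL hO dd_n6,
    Dce.nodeB_sound hy (dd_up hy) hA (by decide +kernel) hL hO dd_n7,
    Dce.nodeB_sound hy (dd_up hy) hA (by decide +kernel) hL hO dd_n8,
    Dce.nodeB_sound hy (dd_up hy) hA (by decide +kernel) hL hO dd_n9⟩

end Cfsg.Agent.HNK
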