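import Cfsg.Agent.HNO.Fam

set_option autoImplicit false
set_option Elab.async false
set_option maxRecDepth 100000
set_option linter.all false

namespace Cfsg.Agent.HNK
open Cfsg.Agent.CGT

open Cfsg.Agent.PM Cfsg.Agent.HNO

theorem dia1 : T.diaB As 100 V U (app [7] (app [0, 0] (invW [7]))) 17 11 = true := by decide +kernel
theorem dia2 : T.diaB As 100 V U (app [7, 0, 5, 7] (app [0, 0] (invW [7, 0, 5, 7]))) 10 11 = true := by decide +kernel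
theorem dia3 : T.diaB As 100 V U (app [7, 1, 5, 7] (app [0, 0] (invW [7, 1, 5, 7]))) 28 11 = true := by decide +kernel
theorem dia5 : T.diaB As 100 V U (app [7, 0, 5, 2, 5, 7] (app [0, 0] (invW [7, 0, 5, 2, 5, 7]))) 4 11 = true := by decide +kernel
theorem dia6 : T.diaB As 100 V U (app [7, 5, 2, 5, 2, 5, 7] (app [0, 0] (invW [7, 5, 2, 5, 2, 5, 7]))) 26 11 = true := by decide +kernel
theorem dia7 : T.diaB As 100 V U (app [7, 0, 5, 2, 7, 0, 5, 7] (app [0, 0] (invW [7, 0, 5, 2, 7, 0, 5, 7]))) 28 11 = true := by decide +kernel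
theorem dia8 : T.diaB As 100 V U (app [7, 3, 3, 1, 2, 2, 1, 3, 1, 3, 3, 1, 3, 5, 3, 0, 5, 2, 7, 0, 5, 2, 5, 7] (app [0, 0] (invW [7, 3, 3, 1, 2, 2, 1, 3, 1, 3, 3, 1, 3, 5, 3, 0, 5, 2, 7, 0, 5, 2, 5, 7]))) 1 11 = true := by decide +kernel
theorem dia9 : T.diaB As 100 V U (app [7, 0, 5, 3, 7, 0, 5, 2, 7, 0, 5, 7] (app [0, 0] (invW [7, 0, 5, 3, 7, 0, 5, 2, 7, 0, 5, 7]))) 10 11 = true := by decide +kernel
noncomputable def DW : List (List ℕ) := [[7], [7, 0, 5, 7], [7, 1, 5, 7], [7, 0, 5, 2, 5, 7], [7, 5, 2, 5, 2, 5, 7], [7, 0, 5, 2, 7, 0, 5, 7], [7, 3, 3, 1, 2, 2, 1, 3, 1, 3, 3, 1, 3, 5, 3, 0, 5, 2, 7, 0, 5, 2, 5, 7], [7, 0, 5, 3, 7, 0, 5, 2, 7, 0, 5, 7]]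
theorem dia_all : ∀ W ∈ DW, ∃ c, T.diaB As 100 V U (app W (app [0, 0] (invW W))) c 11 = true := by
  simp only [DW, List.forall_mem_cons, List.not_mem_nil, IsEmpty.forall_iff, implies_true, and_true]
  exact ⟨⟨_, dia1⟩, ⟨_, dia2⟩, ⟨_, dia3⟩, ⟨_, dia5⟩, ⟨_, dia6⟩, ⟨_, dia7⟩, ⟨_, dia8⟩, ⟨_, dia9⟩⟩

end Cfsg.Agent.HNK
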