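import Cfsg.Agent.HNK.Dce
import Cfsg.Agent.HNK.Dia
import Cfsg.Agent.HNO.Fin

set_option autoImplicit false
set_option maxRecDepth 100000
set_option linter.style.haveILetI false

/-! The double cosets of the centraliser of an involution in the Harada–Norton group. -/

namespace Cfsg.Agent.HNK

open Cfsg.Agent.CGT Equiv

/-- The words of the nodes. -/
noncomputable def nw (D : Dce) (fuel : ℕ) : ℕ → List ℕ :=
  Nat.rec (fun _ => []) (fun _ ih n => (fun f : Fct => Bool.rec []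
    (app (invW (Bool.rec (sh f.p) (app (sh f.p) (0 :: sh f.q)) f.j)) (ih f.a)) (Nat.blt f.a n))
    (D.F.get (nth 0 D.df n))) fuel

theorem nw_eq {K Γ A : Type*} [Group K] [Group Γ] [CommGroup A] (D : Dce) (X : Ctx K Γ A)
    {fuel n : ℕ} (h : n < fuel) : D.W X n = ev (ext (zt X.σ X.γ X.z)) (nw D fuel n) := by
  induction fuel generalizing n with
  | zero => omega
  | succ m ih =>
    have e : nw D (m + 1) n = (fun f : Fct => Bool.rec (motive := fun _ => List ℕ) []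
      (app (invW (Bool.rec (sh f.p) (app (sh f.p) (0 :: sh f.q)) f.j)) (nw D m f.a)) (Nat.blt f.a n))
      (D.F.get (nth 0 D.df n)) := rfl
    rw [e, Dce.W.eq_1]
    generalize D.F.get (nth 0 D.df n) = f
    cases hb : Nat.blt f.a n
    · rw [dif_neg (by rw [← Nat.blt_eq, hb]; simp)]
      simp only [hb]; rfl
    · have hlt : f.a < n := by rwa [Nat.blt_eq] at hb
      rw [dif_pos hlt, ih (by omega)]
      simp only [hb]
      rw [ev_app, ev_invW]
      congr 2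
      obtain ⟨a, b, j, p, q, t⟩ := f
      cases j
      · exact (ev_sh _ _ _ _).symm
      · show _ = ev _ (app (sh p) (0 :: sh q))
        rw [ev_app, ev_cons, ev_sh, ev_sh, ext_zt_zero, ← mul_assoc]; rfl

/-- The relators with the new generator. -/
noncomputable def ZR : List (List ℕ) := [[1, 5, 0, 4], [1, 3, 4, 2, 0, 3, 5, 2], [0, 0, 0, 0, 0],
  [3, 0, 2, 0, 0], [6, 0, 6, 0, 6, 0], [0, 2, 2, 0, 3, 3]]

theorem hH : dd.hypB ZR 5 [0, 1] [(2, 0), (3, 1), (4, 1), (5, 0)] = true := by decide +kernel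

theorem rho : ∃ ρ : K →* HNO.G, zt ρ γ (HNO.δ 3) = wg HNO.δ ((3 :: [0, 1, 2]).map fun i => [Nat.mul 2 i]) :=
  pres_rho rfl (HNO.hD.relsFrom (I := []) (by decide +kernel))

theorem t_aux {X : Type*} [Group X] {x y t : X} (h1 : t * (t * (t * (t * t))) = 1)
    (h2 : x⁻¹ * (t * (x * (t * t))) = 1) (h3 : t⁻¹ * (y⁻¹ * (t * y)) = 1) :
    t⁻¹ * (x⁻¹ * (y * (x * (t * (x⁻¹ * (y⁻¹ * x)))))) = 1 ∧ t * (x * (x * (t * (x⁻¹ * x⁻¹)))) = 1 := by
  have e1 : x⁻¹ * t * x = (t * t)⁻¹ := by rw [eq_inv_iff_mul_eq_one, ← h2]; group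
  have e2 : (t * t)⁻¹ * (t * t)⁻¹ = t := by
    rw [← mul_inv_rev, inv_eq_iff_mul_eq_one, ← h1]; group
  have e3 : x * t * x⁻¹ = t * t := by
    nth_rewrite 1 [← e2]
    rw [← e1]; group
  have e4 : y * t = t * y := by
    calc _ = y * t * (t⁻¹ * (y⁻¹ * (t * y))) := by rw [h3, mul_one]
      _ = _ := by group
  constructor
  · calc _ = x⁻¹ * (x * t * x⁻¹)⁻¹ * (y * (x * t * x⁻¹)) * y⁻¹ * x := by group
      _ = x⁻¹ * (t * t)⁻¹ * (t * (t * y)) * y⁻¹ * x := by
        rw [e3, ← mul_assoc y, e4, mul_assoc t y t, e4]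
      _ = 1 := by group
  · calc _ = t * (x * (x * t * x⁻¹) * x⁻¹) := by group
      _ = t * (x * (t * t) * x⁻¹) := by rw [e3]
      _ = t * ((x * t * x⁻¹) * (x * t * x⁻¹)) := by group
      _ = 1 := by rw [e3, ← h1]; group

theorem hD2 : Holds (ext HNO.δ) (HNO.DR ++ [[7, 1, 2, 0, 6, 1, 3, 0], [6, 0, 0, 6, 1, 1]]) := by
  have h1 := HNO.hD [6, 6, 6, 6, 6] (by decide)
  have h2 := HNO.hD [1, 6, 0, 6, 6] (by decide)
  have h3 := HNO.hD [7, 3, 6, 2] (by decide)
  refine HNO.hD.append ?_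
  simp only [Holds, List.forall_mem_cons, List.not_mem_nil, IsEmpty.forall_iff, implies_true, and_true]
  simp only [ev_cons, ev_nil, mul_one, HNO.e0, HNO.e1, HNO.e2, HNO.e3, HNO.e6, HNO.e7] at h1 h2 h3 ⊢
  exact t_aux h1 h2 h3

theorem nodes : (allL [0, 1, 2, 3, 5, 6, 7, 8, 9] fun d => Nat.blt d 10 &&
    (fun w => beqL w [] || memLL w DW)
      (expand (dbl ((3 :: [0, 1, 2]).map fun i => [Nat.mul 2 i])) (nw dd 10 d))) = true := by
  decide +kernel

theorem main : Finite HNO.G ∧ Bd HNO.K 177408000 ∧ HNO.Cover := by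
  obtain ⟨φ, C⟩ := cert
  haveI := C.fin
  obtain ⟨ρ, hρ⟩ := rho
  have hZ : Holds (ext (zt ρ γ (HNO.δ 3))) ZR := hρ ▸ hD2.relsFrom (I := []) (by decide +kernel)
  have hγ : ∀ j, j < 3 → ρ (γ j) = HNO.δ j := fun j hj => by
    have := congrFun hρ (j + 1)
    interval_cases j
    · exact this.trans ((ev_singleton _ _).trans (HNO.e0 _))
    · exact this.trans ((ev_singleton _ _).trans (HNO.e2 _))
    · exact this.trans ((ev_singleton _ _).trans (HNO.e4 _))
  have hr : ρ.range = HNO.K := by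
    apply le_antisymm
    · rintro _ ⟨k, rfl⟩
      have : gp γ [0, 2, 4] ≤ HNO.K.comap ρ := gp_le fun a ha => by
        have h := ext_mem_gp HNO.δ ha
        simp only [List.mem_cons, List.not_mem_nil, or_false] at ha
        rw [Subgroup.mem_comap]
        rcases ha with rfl | rfl | rfl
        · rw [HNO.e0, hγ 0 (by omega)]; rwa [HNO.e0] at h
        · rw [HNO.e2, hγ 1 (by omega)]; rwa [HNO.e2] at h
        · rw [HNO.e4, hγ 2 (by omega)]; rwa [HNO.e4] at h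
      exact this (gen_top ▸ Subgroup.mem_top k)
    · refine gp_le fun a ha => ?_
      simp only [List.mem_cons, List.not_mem_nil, or_false] at ha
      rcases ha with rfl | rfl | rfl
      · exact ⟨_, (hγ 0 (by omega)).trans (HNO.e0 _).symm⟩
      · exact ⟨_, (hγ 1 (by omega)).trans (HNO.e2 _).symm⟩
      · exact ⟨_, (hγ 2 (by omega)).trans (HNO.e4 _).symm⟩
  have hg : Subgroup.closure (Set.range ρ ∪ {HNO.δ 3}) = ⊤ := by
    rw [eq_top_iff, ← HNO.δ_gen]
    refine gp_le fun a ha => ?_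
    simp only [List.mem_cons, List.not_mem_nil, or_false] at ha
    rcases ha with rfl | rfl | rfl | rfl
    · exact Subgroup.subset_closure (Or.inl ⟨_, (hγ 0 (by omega)).trans (HNO.e0 _).symm⟩)
    · exact Subgroup.subset_closure (Or.inl ⟨_, (hγ 1 (by omega)).trans (HNO.e2 _).symm⟩)
    · exact Subgroup.subset_closure (Or.inl ⟨_, (hγ 2 (by omega)).trans (HNO.e4 _).symm⟩)
    · exact Subgroup.subset_closure (Or.inr (HNO.e6 _))
  have hy : dd.Hyp (Dce.ctx0.{0, 0, 0} φ γ ρ (HNO.δ 3) ρ.range) m_ns := Dce.hyp0 (D := dd)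
    (H := ρ.range) C.M C.base (by decide +kernel) (fun h => ⟨h, rfl⟩) hZ hH
  have hA : ∀ a, (Dce.ctx0.{0, 0, 0} φ γ ρ (HNO.δ 3) ρ.range).ι a ∈ ρ.range := fun _ => ρ.range.one_mem
  haveI h1 : Finite ρ.range := Finite.of_surjective _ ρ.rangeRestrict_surjective
  haveI : Finite (Dce.ctx0.{0, 0, 0} φ γ ρ (HNO.δ 3) ρ.range).H := h1
  have hX := fun g => Dce.all_inX hy hA (by decide) (dd_all hy hA (stab C) C.orbit0.2) hg.ge
    (Subgroup.mem_top g)
  refine ⟨Dce.finite_of_inX hX, hr ▸ ⟨h1, card_eq ▸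
    Nat.card_le_card_of_surjective _ ρ.rangeRestrict_surjective⟩, fun g => ?_⟩
  obtain ⟨d, hd, k, hk⟩ := hX g
  have h2 := allL_iff.1 nodes d hd
  rw [Bool.and_eq_true, Nat.blt_eq, Bool.or_eq_true] at h2
  rw [nw_eq dd _ h2.1] at hk
  change (ρ k * ev (ext (zt ρ γ (HNO.δ 3))) _)⁻¹ * g ∈ ρ.range at hk
  rw [hρ, ← ev_expand_dbl, hr] at hk
  have h3 : ρ k ∈ HNO.K := hr ▸ ⟨k, rfl⟩
  rcases h2.2 with h4 | h4
  · rw [beqL_sound h4, ev_nil, mul_one] at hk
    exact Or.inl ((HNO.K.mul_mem_cancel_left (HNO.K.inv_mem h3)).1 hk)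
  · obtain ⟨c, hc⟩ := dia_all _ (memLL_sound h4)
    exact Or.inr ⟨_, c, hc, _, h3, _, hk, (mul_inv_cancel_left _ _).symm⟩

theorem out_card : Nat.card (Cfsg.Out Cfsg.Spor.HN) = 2 :=
  haveI := main.1
  HNO.out_of main.2.1 main.2.2

end Cfsg.Agent.HNK
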